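import Cfsg.Agent.Mrg.Omega.NO3S.PB.FTwo
import Cfsg.Agent.Mrg.Omega.NOThree.Pts
import Cfsg.Agent.Mrg.Omega.NO3S.FarQ.Free.Canon
import Cfsg.Agent.Mrg.Omega.NO3S.FarQ.FOne
import Cfsg.Agent.Mrg.Omega.NO3S.FarQ.Real

section


/-!
# NO-3S, natural lines, the `(R, B)`-frame: the instance of `NOThree.Pts.Geom`

Copy of `PtGeom.lean` (helper471) over `PB S B P V Z`.
-/

set_option autoImplicit false
set_option linter.unusedSectionVars false
set_option linter.unusedVariables false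

namespace Cfsg.Agent.Omega.NO3S.PB.Geom

open Subgroup Cfsg.Agent.Omega.NoFF.Basic Cfsg.Agent.Omega.NO3S.PT Cfsg.Agent.Omega.NOThree.Pts
open Cfsg.Agent.Omega.NO3S.PtGeom (Pt inc hf_conj smul_base_eq)
open scoped Pointwise

variable {G : Type*} [Group G]

section

variable [Finite G] {S : Sylow 2 G} {B P V Z : Subgroup G}

theorem omB_conj (hO : OmB B V) (g : G) : OmB (cj g B) (cj g V) := by
  intro y hy hyV hyy hc
  rw [mem_cj] at hy
  rw [← cj_centralizer, mem_cj] at hyV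
  rw [mem_cj]
  refine hO _ hy hyV ?_ fun s hs hsV => ?_
  · have := congrArg (fun t => g⁻¹ * t * g) hyy
    simpa [mul_assoc] using this
  · have h1 := hc (g * s * g⁻¹) (conj_mem_cj hs)
      (by rw [← cj_centralizer]; exact conj_mem_cj hsV)
    have h2 := congrArg (fun t => g⁻¹ * t * g) h1
    simpa [mul_assoc] using h2

end

section

variable [Finite G] {S : Sylow 2 G} {B P V Z : Subgroup G} (h : PB S B P V Z)
include h

/-- every flag is conjugate to `(Z, V)` -/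
theorem exists_conj_flag {X L : Subgroup G} (hX : IsCj Z X) (hL : IsCj V L) (hXL : X ≤ L) :
    ∃ g : G, X = cj g Z ∧ L = cj g V := by
  obtain ⟨g, rfl⟩ := hL
  obtain ⟨p, hp, hXp⟩ := h.exists_pt (hX.cj g⁻¹) (by rw [cj_le_iff, inv_inv]; exact hXL)
  refine ⟨g * p, ?_, ?_⟩
  · rw [← cj_cj, ← hXp, cj_cj, mul_inv_cancel, cj_one]
  · rw [← cj_cj, cj_eq_iff.2 (h.PN hp)]

theorem ws_sq_pt {X : Subgroup G} (hX : IsCj Z X) : ∀ a ∈ ws V X, a * a = 1 := by
  obtain ⟨g, rfl⟩ := hX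
  have := (h.conj g).ws_sq
  rwa [ws_cj_left] at this

/-- `(F1)` -/
theorem inf_eq (hf : ¬ kx V Z ≤ centralizer (V : Set G)) {X Y L : Subgroup G} (hL : IsCj V L)
    (hX : IsCj Z X) (hXL : X ≤ L) (hY : IsCj Z Y) (hYL : Y ≤ L) (hne : X ≠ Y) :
    ws V X ⊓ ws V Y = IV L X := by
  obtain ⟨g, rfl, rfl⟩ := exists_conj_flag h hX hL hXL
  have h1 := (h.conj g).IV_eq (hf_conj hf g) (X := cj g Z) (Y := Y) ⟨1, (cj_one _).symm⟩ hXL
    (isCj_cj.2 hY) hYL hne
  rwa [ws_cj_left, ws_cj_left] at h1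

theorem IV_conj (hf : ¬ kx V Z ≤ centralizer (V : Set G)) (g : G) : IV (cj g V) (cj g Z) = cj g (IV V Z) := by
  obtain ⟨Y, hY, hYV, hne⟩ := h.exists_second h.isCj_self h.ZV
  rw [← h.IV_eq hf h.isCj_self h.ZV hY hYV hne.symm, cj_inf, ← ws_cj, ← ws_cj]
  exact (inf_eq h hf (L := cj g V) ⟨g, rfl⟩ (h.isCj_self.cj g) (cj_le_cj.2 h.ZV) (hY.cj g) (cj_le_cj.2 hYV)
    (fun e => hne (cj_inj.1 e).symm)).symm

/-- **The instance.** -/
theorem geom (hf : ¬ kx V Z ≤ centralizer (V : Set G)) (hO : OmB B V) :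
    Geom (X := Pt Z) (L := Pt V) inc (fun x => x.sg) (fun x => ws V x.sg) (fun l => l.sg) (Nat.card Z)
      ((IV V Z).relIndex (ws V Z)) where
  inc_smul g x l hxl := cj_le_cj.2 hxl
  R_smul g x a ha := conj_mem_cj ha
  W_smul g x a ha := by
    rw [Pt.sg_smul, ws_cj]
    exact conj_mem_cj ha
  V_smul g l a ha := conj_mem_cj ha
  two_le := h.one_lt_card
  card x := h.card_pt x.isCj
  ti x y a ha ha' h1 := Pt.ext (h.pts_eq x.isCj y.isCj ha ha' h1)
  R_le x l hxl := hxl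
  V_le x l hxl := le_ws l.isCj hxl
  W_le x A hA := ws_le fun L hL hXL => hA (Pt.mk hL) hXL
  cover l a ha := by
    obtain ⟨g, hg⟩ := l.exists_smul
    have hl : l.sg = cj g V := by rw [hg]; rfl
    by_cases ha1 : a = 1
    · refine ⟨Pt.mk (h.isCj_self.cj g), ?_, ?_⟩
      · show cj g Z ≤ l.sg
        rw [hl]
        exact cj_le_cj.2 h.ZV
      · rw [ha1]; exact one_mem _
    · rw [hl] at ha
      obtain ⟨X, hX, hXV, haX⟩ := (h.conj g).exists_point ha ha1
      exact ⟨Pt.mk (isCj_cj.1 hX), by rw [← hl] at hXV; exact hXV, haX⟩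
  exists_line x := by
    obtain ⟨g, hg⟩ := x.exists_smul
    refine ⟨Pt.mk ⟨g, rfl⟩, ?_⟩
    show x.sg ≤ cj g V
    rw [hg]
    exact cj_le_cj.2 h.ZV
  comm x a ha b hb := (mem_centralizer_iff.1 (h.ws_comm x.isCj ha) b hb).symm
  sq x := ws_sq_pt h x.isCj
  F1 x y z l hx hy hz hxy hxz := by
    rw [inf_eq h hf l.isCj x.isCj hx y.isCj hy (fun e => hxy (Pt.ext e)),
      inf_eq h hf l.isCj x.isCj hx z.isCj hz (fun e => hxz (Pt.ext e))]
  index x y l hx hy hxy := by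
    rw [inf_eq h hf l.isCj x.isCj hx y.isCj hy (fun e => hxy (Pt.ext e))]
    obtain ⟨g, h1, h2⟩ := exists_conj_flag h x.isCj l.isCj hx
    rw [h1, h2, IV_conj h hf, ws_cj]
    exact relIndex_pointwise_smul _ _ _
  F2 x y z l hx hy hz hxy u hu hu' huV := by
    obtain ⟨g, h1, h2⟩ := exists_conj_flag h x.isCj l.isCj hx
    have hI : u ∈ IV (cj g V) (cj g Z) := by
      rw [← h1, ← h2, ← inf_eq h hf l.isCj x.isCj hx y.isCj hy (fun e => hxy (Pt.ext e))]
      exact ⟨hu, hu'⟩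
    have hx' : x.sg ≤ cj g V := by rw [← h2]; exact hx
    have hz' : z.sg ≤ cj g V := by rw [← h2]; exact hz
    obtain ⟨c, hc, -, hcu, hcx, -⟩ := (h.conj g).F2_swap (hf_conj hf g) (omB_conj hO g) hI (by rwa [← h2])
      (isCj_cj.2 x.isCj) hx' (isCj_cj.2 z.isCj) hz'
    refine ⟨c, hcu, Pt.ext ?_, Pt.ext hcx⟩
    show cj c l.sg = l.sg
    rw [h2, cj_eq_iff]
    exact (h.conj g).XV_le_N hc

/-! ### Critical pairs -/

open Cfsg.Agent.Omega.NoFF.Lines (W_le line_le)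

/-- the product of the lines on `Z` -/
theorem W_eq (hV : NoFF.Basic.V Z P = V) : NoFF.Lines.W Z (normalizer (Z : Set G)) {P} = ws V Z := by
  apply le_antisymm
  · refine W_le fun Q hQ c hc => ?_
    rw [Set.mem_singleton_iff.1 hQ, hV]
    refine le_ws ⟨c, rfl⟩ ?_
    have h1 : cj c Z = Z := cj_eq_iff.2 hc
    nth_rewrite 1 [← h1]
    exact cj_le_cj.2 h.ZV
  · refine ws_le fun L hL hZL => ?_
    obtain ⟨g, h1, rfl⟩ := exists_conj_flag h h.isCj_self hL hZL
    have h2 := line_le (Z := Z) (C := normalizer (Z : Set G)) (F := {P}) (Set.mem_singleton P)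
      (c := g) (cj_eq_iff.1 h1.symm)
    rwa [hV] at h2

theorem walk_of_path {k : ℕ} {a b : G} (hp : NoFF.Lines.Path (normalizer (Z : Set G)) {P} k a b) :
    Walk (inc (Z := Z) (V := V)) k (a • Pt.base Z) (b • Pt.base Z) := by
  induction hp with
  | @zero g c hc =>
    have h1 : (g * c) • Pt.base Z = g • Pt.base Z := by
      rw [smul_base_eq, mul_inv_rev, inv_mul_cancel_right]
      exact inv_mem hc
    rw [h1]
    exact .zero _
  | @step k g x p c Q _ hQ hp hc ih =>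
    rw [Set.mem_singleton_iff.1 hQ] at hp
    have h1 : (x * p * c) • Pt.base Z = (x * p) • Pt.base Z := by
      rw [smul_base_eq, mul_inv_rev, inv_mul_cancel_right]
      exact inv_mem hc
    rw [h1]
    refine ih.step (l := x • Pt.base V) ?_ ?_
    · show cj x Z ≤ cj x V
      exact cj_le_cj.2 h.ZV
    · show cj (x * p) Z ≤ cj x V
      rw [← cj_cj, cj_le_cj]
      exact h.pt_le hp

theorem path_of_walk {k : ℕ} {x y : Pt Z} (hw : Walk (inc (Z := Z) (V := V)) k x y) :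
    ∀ a b : G, x = a • Pt.base Z → y = b • Pt.base Z → NoFF.Lines.Path (normalizer (Z : Set G)) {P} k a b := by
  induction hw with
  | zero x =>
    intro a b ha hb
    have h1 := smul_base_eq.1 (ha.symm.trans hb)
    have h2 := NoFF.Lines.Path.zero (F := {P}) a h1
    rwa [mul_inv_cancel_left] at h2
  | @step k x y z l _ hy hz ih =>
    intro a b ha hb
    obtain ⟨g, h1, h2⟩ := exists_conj_flag h y.isCj l.isCj hy
    have h3 := ih a g ha (Pt.ext h1)
    have hz' : z.sg ≤ cj g V := by rw [← h2]; exact hz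
    obtain ⟨p, hp, hzp⟩ := h.exists_pt (z.isCj.cj g⁻¹) (by rw [cj_le_iff, inv_inv]; exact hz')
    have h4 : z = (g * p) • Pt.base Z := by
      refine Pt.ext ?_
      show z.sg = cj (g * p) Z
      rw [← cj_cj, ← hzp, cj_cj, mul_inv_cancel, cj_one]
    have h5 := smul_base_eq.1 (h4.symm.trans hb)
    have h6 := h3.step (Set.mem_singleton P) hp h5
    rwa [mul_inv_cancel_left] at h6

theorem com_iff (hV : NoFF.Basic.V Z P = V) {a b : G} :
    NoFF.Lines.Com Z (normalizer (Z : Set G)) {P} a b ↔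
      Com (fun x : Pt Z => ws V x.sg) (a • Pt.base Z) (b • Pt.base Z) := by
  unfold NoFF.Lines.Com
  rw [W_eq h hV]
  have h1 : ∀ g : G, (MulAut.conj g • ws V Z : Subgroup G) = ws V (g • Pt.base Z).sg := fun g => by
    rw [Pt.sg_smul, ws_cj]; rfl
  rw [h1, h1]
  constructor
  · intro h2 u hu v hv
    exact (mem_centralizer_iff.1 (h2 hu) v hv).symm
  · intro h2 u hu
    exact mem_centralizer_iff.2 fun v hv => (h2 u hu v hv).symm

/-- **Critical pairs.** -/
theorem crit (hV : NoFF.Basic.V Z P = V) {n : ℕ} {a b : G}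
    (hc : NoFF.Lines.Crit Z (normalizer (Z : Set G)) {P} n a b) :
    Crit (inc (Z := Z) (V := V)) (fun x : Pt Z => ws V x.sg) n (a • Pt.base Z) (b • Pt.base Z) where
  walk := walk_of_path h hc.path
  ne := fun h1 => hc.ne ((com_iff h hV).2 h1)
  min := by
    intro k hk x y hw
    obtain ⟨a', rfl⟩ := x.exists_smul
    obtain ⟨b', rfl⟩ := y.exists_smul
    exact (com_iff h hV).1 (hc.min k hk _ _ (path_of_walk h hw a' b' rfl rfl))

end

end Cfsg.Agent.Omega.NO3S.PB.Geom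

end

section


/-!
# The `(R, B)`-frame: `B` is a Sylow 2-subgroup of every `H` with `B ≤ H ≤ C_G(Z)`

* `PB.exists_syl`, `PB.exists_le_conj`, `PB.exists_conj`;
* `PB.exists_cent_line` : all lines on `Z` are conjugate in `C_G(Z)`;
* `PB.inv_fix` : an involution which centralises a point `X` and normalises another point `Y` on a line `L` centralises `Y`.
-/

set_option autoImplicit false
set_option linter.unusedSectionVars false

namespace Cfsg.Agent.Omega.NO3S.PT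

open Subgroup Cfsg.Agent.Omega.NoFF.Basic
open scoped Pointwise

variable {G : Type*} [Group G]

namespace PB

variable [Finite G] {S : Sylow 2 G} {B P V Z : Subgroup G} (h : PB S B P V Z)
include h

theorem isPGroup_B : IsPGroup 2 B := h.isPGroup_of_le le_rfl

/-- every 2-subgroup of `C_G(Z)` has order at most `|B|` -/
theorem card_le_B {D : Subgroup G} (hD : IsPGroup 2 D) (hDZ : D ≤ centralizer (Z : Set G)) :
    Nat.card D ≤ Nat.card B := by
  obtain ⟨m, -, hm⟩ := h.exists_le_conjB h.SN le_rfl hD (hDZ.trans (centralizer_le_normalizer _)) hDZ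
  refine (Subgroup.card_le_of_le hm).trans ?_
  exact (Nat.card_congr (Subgroup.equivSMul (MulAut.conj m) B).toEquiv).ge

/-- `B` is a Sylow 2-subgroup of `H`. -/
theorem exists_syl {H : Subgroup G} (hB : B ≤ H) (hH : H ≤ centralizer (Z : Set G)) :
    ∃ T : Sylow 2 H, (T : Subgroup H) = B.subgroupOf H := by
  obtain ⟨T, hT⟩ := (h.isPGroup_B.comap_subtype (K := H)).exists_le_sylow
  refine ⟨T, (Subgroup.eq_of_le_of_card_ge hT ?_).symm⟩
  have h1 : Nat.card (B.subgroupOf H) = Nat.card B := Nat.card_congr (Subgroup.subgroupOfEquivOfLe hB).toEquiv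
  have h2 : Nat.card ((T : Subgroup H).map H.subtype) = Nat.card T :=
    Nat.card_congr ((T : Subgroup H).equivMapOfInjective H.subtype H.subtype_injective).symm.toEquiv
  show Nat.card T ≤ Nat.card (B.subgroupOf H)
  rw [h1, ← h2]
  refine h.card_le_B (T.isPGroup'.map _) ?_
  refine le_trans ?_ hH
  rintro _ ⟨x, -, rfl⟩
  exact x.2

/-- A 2-subgroup of `H`, `B ≤ H ≤ C_G(Z)`, lies in an `H`-conjugate of `B`. -/
theorem exists_le_conj {H D : Subgroup G} (hB : B ≤ H) (hH : H ≤ centralizer (Z : Set G)) (hD : IsPGroup 2 D)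
    (hDH : D ≤ H) : ∃ m ∈ H, D ≤ cj m B := by
  have : Fact (Nat.Prime 2) := ⟨Nat.prime_two⟩
  obtain ⟨T, hT⟩ := h.exists_syl hB hH
  obtain ⟨T', hT'⟩ := (hD.comap_subtype (K := H)).exists_le_sylow
  obtain ⟨m, hm⟩ := MulAction.exists_smul_eq H T T'
  refine ⟨m, m.2, fun x hx => ?_⟩
  rw [mem_cj]
  have h1 : (⟨x, hDH hx⟩ : H) ∈ (T' : Subgroup H) := hT' (mem_subgroupOf.2 hx)
  rw [← hm] at h1
  have h2 : (⟨x, hDH hx⟩ : H) ∈ ((m • T : Sylow 2 H) : Subgroup H) := h1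
  have h3 := mem_conj (H := (T : Subgroup H)).1 h2
  rw [hT] at h3
  exact mem_subgroupOf.1 h3

/-- Two conjugates of `B` in `H`, `B ≤ H ≤ C_G(Z)`, are conjugate in `H`. -/
theorem exists_conj {H : Subgroup G} (hB : B ≤ H) (hH : H ≤ centralizer (Z : Set G)) {a : G} (ha : cj a B ≤ H) :
    ∃ m ∈ H, cj m B = cj a B := by
  have hcard : ∀ g : G, Nat.card (cj g B : Subgroup G) = Nat.card B := fun g =>
    (Nat.card_congr (Subgroup.equivSMul (MulAut.conj g) B).toEquiv).symm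
  obtain ⟨m, hm, h1⟩ := h.exists_le_conj hB hH (D := cj a B) (by
    have := (h.conj a).isPGroup_of_le (A := cj a B) le_rfl
    exact this) ha
  refine ⟨m, hm, (Subgroup.eq_of_le_of_card_ge h1 ?_).symm⟩
  rw [hcard, hcard]

/-- all lines on `Z` are conjugate in `C_G(Z)` -/
theorem exists_cent_line {M : Subgroup G} (hM : IsCj V M) (hZM : Z ≤ M) :
    ∃ c ∈ centralizer (Z : Set G), M = cj c V := by
  obtain ⟨g, hg, rfl⟩ := PB.Geom.exists_conj_flag h h.isCj_self hM hZM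
  have h1 : cj g B ≤ centralizer (Z : Set G) := by
    have h2 : cj g B ≤ cj g (centralizer (Z : Set G)) := cj_le_cj.2 h.B_le
    rwa [cj_centralizer, ← hg] at h2
  obtain ⟨c, hc, hcB⟩ := h.exists_conj h.B_le le_rfl h1
  refine ⟨c, hc, ?_⟩
  have h2 : c⁻¹ * g ∈ normalizer (B : Set G) := by
    rw [← cj_eq_iff, ← cj_cj, ← hcB, cj_cj, inv_mul_cancel, cj_one]
  have h5 := cj_eq_iff.2 (h.NB h2)
  rw [← cj_cj] at h5
  have h6 := congrArg (cj c) h5
  rwa [cj_cj, mul_inv_cancel, cj_one] at h6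

/-- an involution which centralises the point `X` and normalises the point `Y` on `L`, centralises `Y` -/
theorem inv_fix {L X Y : Subgroup G} (hL : IsCj V L) (hX : IsCj Z X) (hXL : X ≤ L) (hY : IsCj Z Y) (hYL : Y ≤ L)
    (hne : X ≠ Y) {g : G} (hg : g * g = 1) (hgX : ∀ x ∈ X, g * x = x * g) (hgY : cj g Y = Y) :
    ∀ y ∈ Y, g * y = y * g := by
  have hg2 : TwoEl g := ⟨1, by rw [pow_one, pow_two]; exact hg⟩
  obtain ⟨y, hy, hy1⟩ := h.pt_ne_bot hY
  -- a fixed point of `g` on `Y`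
  obtain ⟨u, hu, hu1, hgu⟩ : ∃ u ∈ Y, u ≠ 1 ∧ g * u = u * g := by
    have hyY : g * y * g⁻¹ ∈ Y := by
      have h1 := conj_mem_cj (g := g) hy
      rwa [hgY] at h1
    have hYL' : ∀ a ∈ Y, ∀ b ∈ Y, a * b = b * a := by
      intro a ha b hb
      obtain ⟨c, rfl⟩ := hL
      exact (h.conj c).Vcomm (hYL ha) (hYL hb)
    have hg' : g⁻¹ = g := inv_eq_of_mul_eq_one_left hg
    by_cases hc : y * (g * y * g⁻¹) = 1
    · refine ⟨y, hy, hy1, ?_⟩
      have hyy : y * y = 1 := by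
        obtain ⟨c, rfl⟩ := hL
        exact (h.conj c).Vsq y (hYL hy)
      have h2 : g * y * g⁻¹ = y := by
        have h3 : g * y * g⁻¹ = y⁻¹ := by
          rw [eq_inv_iff_mul_eq_one]
          have := hYL' _ hyY _ hy
          rw [this]; exact hc
        rw [h3, inv_eq_of_mul_eq_one_left hyy]
      rwa [mul_inv_eq_iff_eq_mul] at h2
    · refine ⟨y * (g * y * g⁻¹), mul_mem hy hyY, hc, ?_⟩
      have h1 := hYL' _ hyY _ hy
      calc g * (y * (g * y * g⁻¹)) = (g * y * g⁻¹) * (g * g) * y * g⁻¹ := by group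
        _ = (g * y * g⁻¹) * y * g⁻¹ := by rw [hg]; group
        _ = (g * y * g⁻¹) * y * g := by rw [hg']
        _ = y * (g * y * g⁻¹) * g := by rw [h1]
  have h1 := h.two_col' hL hX hXL hY hYL hne hg2 (mem_centralizer_iff.2 fun x hx => (hgX x hx).symm) hu hu1 hgu
  exact fun v hv => (mem_centralizer_iff.1 h1 v (hYL hv)).symm

end PB

end Cfsg.Agent.Omega.NO3S.PT

end

section


/-!
# FarQ K-free over the `(R, B)`-frame: the fields `fl`, `cl`, `f2` of `Frm`, and `JS`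

`PB S B P V Z`, (F1), `OmB B V`; points, lines of `PtGeom`.
-/

set_option autoImplicit false
set_option linter.unusedSectionVars false

namespace Cfsg.Agent.Omega.NO3S.FarQ.Free.RealB2

open Subgroup Cfsg Cfsg.Agent.ZN Cfsg.Agent.MinSimple.VModule Cfsg.Agent.Omega.NOThree.Pts
open Cfsg.Agent.Omega.NO3S.FarQ Cfsg.Agent.Omega.NO3S.FarQ.Glue Cfsg.Agent.Omega.NO3S.PT
open Cfsg.Agent.Omega.NO3S.PtGeom (Pt inc)
open Cfsg.Agent.Omega.NO3S.FarQ.Free.Canon
open scoped Pointwise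

universe u

variable {G : Type u} [Group G] [Finite G] {S : Sylow 2 G} {B P V Z : Subgroup G} (h : PB S B P V Z)
include h

/-- every flag is conjugate to the base flag -/
theorem fl : ∀ (x : Pt Z) (m : Pt V), inc x m → ∃ g : G, x = g • Pt.base Z ∧ m = g • Pt.base V := by
  intro x m hxm
  obtain ⟨g, h1, h2⟩ := PB.Geom.exists_conj_flag h x.isCj m.isCj hxm
  exact ⟨g, Pt.ext h1, Pt.ext h2⟩

/-- `C_G(Z)` is transitive on the lines on `Z` -/
theorem cl : ∀ m : Pt V, inc (Pt.base Z) m → ∃ c ∈ centralizer ((Pt.base Z).sg : Set G), m = c • Pt.base V := by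
  intro m hm
  obtain ⟨c, hc, e⟩ := h.exists_cent_line m.isCj hm
  exact ⟨c, hc, Pt.ext e⟩

theorem mem_IV {u : G} (hu : ∀ y : Pt Z, inc y (Pt.base V) → u ∈ ws V y.sg) : u ∈ IV V Z := by
  rw [IV, Subgroup.mem_sInf]
  rintro _ ⟨Y, hY, hYV, rfl⟩
  exact hu (Pt.mk hY) hYV

/-- (F2') -/
theorem f2 (hf : ¬ kx V Z ≤ centralizer (V : Set G)) (hO : OmB B V) : ∀ u : G, (∀ y : Pt Z, inc y (Pt.base V) → u ∈ ws V y.sg) → u ∉ (Pt.base V).sg →
    ∀ y : Pt Z, inc y (Pt.base V) → ∀ r ∈ y.sg, ∃ k ∈ centralizer ((Pt.base V).sg : Set G),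
      (∀ w ∈ ws V y.sg, k * w * k⁻¹ * w⁻¹ ∈ y.sg) ∧ k * u * k⁻¹ * u⁻¹ = r := by
  intro u hu huV y hy r hr
  obtain ⟨d, hd, hdV, e⟩ := h.F2' hf hO (mem_IV h hu) huV y.isCj hy hr
  exact ⟨d, hdV, (mem_kx.1 hd).2, e⟩

variable {H M : Type*} [Group H] [CommGroup M] [MulDistribMulAction H M]
variable {ρ : G → H} {π : G → M} {lam U : Subgroup M}

theorem exists_js_base (hf : ¬ kx V Z ≤ centralizer (V : Set G)) (hO : OmB B V)
    (F : RF (inc (Z := Z) (V := V)) (fun x => x.sg) (fun x => ws V x.sg) (fun l => l.sg) (Pt.base Z) (Pt.base V)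
      ρ π lam U) : ∃ J : Subgroup H, JS lam U J ∧ ∀ c ∈ fixer (H := H) lam, ∀ j ∈ J, c * j * c⁻¹ ∈ J := by
  have hA : XV V Z ⊓ centralizer (V : Set G) ≤ centralizer (Z : Set G) :=
    inf_le_right.trans (centralizer_le h.ZV)
  have hVW : V ≤ ws V Z := h.V_le_ws h.ZV
  have D := PB.Geom.geom h hf hO
  have hCV : centralizer (V : Set G) ≤ centralizer (Z : Set G) := centralizer_le h.ZV
  refine ⟨im F.re (XV V Z ⊓ centralizer (V : Set G)) hA, ⟨?_, ?_, ?_⟩, ?_⟩
  · rintro _ ⟨c, hc, rfl⟩ a ha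
    obtain ⟨v, hv, rfl⟩ := (F.mlam a).1 ha
    rw [← F.re.act c (hA hc) v (hVW hv)]
    have h1 := mem_centralizer_iff.1 hc.2 v hv
    rw [← h1, mul_inv_cancel_right]
  · rintro _ ⟨c, hc, rfl⟩ u hu
    obtain ⟨w, hw, hwy, rfl⟩ := (F.mU u).1 hu
    rw [← π_comm F.re D (hA hc) hw]
    exact (F.mlam _).2 ⟨_, h.XV_act hc.1 (mem_IV h hwy), rfl⟩
  · intro u hu hul a ha
    obtain ⟨w, hw, hwy, rfl⟩ := (F.mU u).1 hu
    obtain ⟨v, hv, rfl⟩ := (F.mlam a).1 ha
    have hwV : w ∉ V := fun e => hul ((F.mlam _).2 ⟨w, e, rfl⟩)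
    obtain ⟨c, hc, hcV, hcu⟩ := h.F2 hf hO (mem_IV h hwy) hwV hv
    refine ⟨ρ c, ⟨c, ⟨hc, hcV⟩, rfl⟩, ?_⟩
    rw [← F.re.act c (hA ⟨hc, hcV⟩) w hw]
    have e : c * w * c⁻¹ = v * w := by rw [← hcu]; group
    rw [e, F.re.pmul v (hVW hv) w hw, mul_comm]
  · rintro c hc _ ⟨j, hj, rfl⟩
    obtain ⟨g, hg, rfl⟩ := F.cov c hc
    have hg' : g ∈ normalizer (V : Set G) := centralizer_le_normalizer _ hg
    refine ⟨g * j * g⁻¹, Subgroup.mem_inf.2 ⟨?_, mul_mem (mul_mem hg (Subgroup.mem_inf.1 hj).2) (inv_mem hg)⟩,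
      F.re.conj (hCV hg) (hA hj)⟩
    exact (mem_normalizer_iff.1 (normalizer_le_XV V Z hg') j).1 (Subgroup.mem_inf.1 hj).1

/-- **`JS` at every realised flag.** -/
theorem exists_js (hf : ¬ kx V Z ≤ centralizer (V : Set G)) (hO : OmB B V) {x : Pt Z} {l : Pt V}
    (F : RF (inc (Z := Z) (V := V)) (fun x => x.sg) (fun x => ws V x.sg) (fun l => l.sg) x l ρ π lam U) :
    ∃ J : Subgroup H, JS lam U J ∧ ∀ c ∈ fixer (H := H) lam, ∀ j ∈ J, c * j * c⁻¹ ∈ J := by
  have D := PB.Geom.geom h hf hO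
  obtain ⟨g, hx, hl⟩ := fl h x l F.pl
  have F' := F.smul D g⁻¹
  rw [hx, hl, inv_smul_smul, inv_smul_smul] at F'
  exact exists_js_base h hf hO F'

end Cfsg.Agent.Omega.NO3S.FarQ.Free.RealB2

end

section


/-!
# Points and lines of NO-3S without (F1), over the `(R, B)`-frame

`geo` : the instance of `FarQ.FOneGeo.Geo` from `PB S B P V Z`.
-/

set_option autoImplicit false
set_option linter.unusedSectionVars false
set_option linter.unusedVariables false

namespace Cfsg.Agent.Omega.NO3S.FarB.FOneGeo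

open Subgroup Cfsg Cfsg.Agent.ZN

section instance_

open Cfsg.Agent.Omega.NO3S.PT Cfsg.Agent.Omega.NO3S.PtGeom
open Cfsg.Agent.Omega.NO3S.PB.Geom (ws_sq_pt)
open Cfsg.Agent.Omega.NO3S.FarQ.FOneGeo (Geo)
open scoped Pointwise

variable {G : Type*} [Group G] [Finite G] {S : Sylow 2 G} {B P V Z : Subgroup G} (h : PB S B P V Z)
include h

theorem geo : Geo (X := Pt Z) (L := Pt V) PtGeom.inc (fun x => x.sg) (fun x => ws V x.sg) (fun l => l.sg) where
  inc_smul g x l hxl := cj_le_cj.2 hxl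
  R_smul g x a ha := conj_mem_cj ha
  W_smul g x a ha := by
    rw [Pt.sg_smul, ws_cj]
    exact conj_mem_cj ha
  V_smul g l a ha := conj_mem_cj ha
  exists_ne x := h.pt_ne_bot x.isCj
  ti x y a ha ha' h1 := Pt.ext (h.pts_eq x.isCj y.isCj ha ha' h1)
  R_le x l hxl := hxl
  V_le x l hxl := le_ws l.isCj hxl
  exists_line x := by
    obtain ⟨g, hg⟩ := x.exists_smul
    refine ⟨Pt.mk ⟨g, rfl⟩, ?_⟩
    show x.sg ≤ cj g V
    rw [hg]
    exact cj_le_cj.2 h.ZV
  comm x a ha b hb := (mem_centralizer_iff.1 (h.ws_comm x.isCj ha) b hb).symm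
  sq x := PB.Geom.ws_sq_pt h x.isCj

end instance_

end Cfsg.Agent.Omega.NO3S.FarB.FOneGeo

end

section


/-!
# (F1) for `q ≥ 4` over the `(R, B)`-frame (copy of `FarQ/FOne.lean`)

`hf_of` : `PB S B P V Z`, a critical pair at distance `n ≥ 1`, no over-offender in `O₂(C_H(lam))` and `PSf` imply (F1):
`¬ kx V Z ≤ C_G(V)`.
-/

set_option autoImplicit false
set_option linter.unusedSectionVars false

namespace Cfsg.Agent.Omega.NO3S.FarB.FOne

open Subgroup Cfsg Cfsg.Agent.ZN Cfsg.Agent.MinSimple.VModule Cfsg.Agent.Omega.NO3S.PT Cfsg.Agent.Omega.NO3S.FarQ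
open Cfsg.Agent.Omega.NO3S.FarQ.FOne
open Cfsg.Agent.Omega.NO3S.PtGeom (Pt)
open Cfsg.Agent.Omega.NO3S.PB.Geom (exists_conj_flag)
open Cfsg.Agent.Omega.NOThree.Pts (Walk Com Crit mem_normalizer_of_conj conj_mem_of_le_normalizer)
open Cfsg.Agent.ClassTwoFusion.Quad (cv mem_cv cv_anti)
open scoped Pointwise

variable {G : Type*} [Group G]

section main

variable [Finite G] {S : Sylow 2 G} {B₀ P V Z : Subgroup G} (h : PB S B₀ P V Z)
variable {H M : Type*} [Group H] [CommGroup M] [MulDistribMulAction H M] {ρ : G → H} {π : G → M}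
include h

/-- `K_Z` centralises all lines on `Z` if it centralises one. -/
theorem kx_le (hf : kx V Z ≤ centralizer (V : Set G)) : kx V Z ≤ centralizer (ws V Z : Set G) := by
  have h1 : ws V Z ≤ centralizer (kx V Z : Set G) := by
    refine ws_le fun L hL hZL => ?_
    obtain ⟨g, h1, rfl⟩ := exists_conj_flag h h.isCj_self hL hZL
    have h2 : cj g (kx V Z) = kx V Z := by rw [← kx_cj, ← h1]
    rw [← h2, ← cj_centralizer, cj_le_cj]
    intro v hv
    exact mem_centralizer_iff.2 fun k hk => (mem_centralizer_iff.1 (hf hk) v hv).symm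
  intro k hk
  exact mem_centralizer_iff.2 fun w hw => (mem_centralizer_iff.1 (h1 hw) k hk).symm

theorem kx_eq (hf : kx V Z ≤ centralizer (V : Set G)) : kx V Z = centralizer (ws V Z : Set G) := by
  refine le_antisymm (kx_le h hf) fun g hg => ⟨fun z hz => ?_, fun w hw => ?_⟩
  · exact (mem_centralizer_iff.1 hg z (h.Z_le_ws hz)).symm
  · rw [(mem_centralizer_iff.1 hg w hw).symm, mul_inv_cancel_right, mul_inv_cancel]
    exact one_mem _

theorem Off.le_cent {B : Subgroup G} (hB : Off V V Z B) : B ≤ centralizer (Z : Set G) :=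
  hB.le.trans ((o2_le _).trans (centralizer_le h.ZV))

/-- `lam` -/
theorem ph_V_mem (r : Real V Z ρ π) {m : M} :
    m ∈ (V.subgroupOf (ws V Z)).map (ph r) ↔ ∃ v ∈ V, π v = m := by
  constructor
  · rintro ⟨v, hv, rfl⟩
    exact ⟨v, hv, rfl⟩
  · rintro ⟨v, hv, rfl⟩
    exact ⟨⟨v, h.V_le_ws h.ZV hv⟩, hv, rfl⟩

variable (r : Real V Z ρ π)

/-- elements over `C_H(lam)` -/
theorem lift_fixer {x : H} (hx : x ∈ fixer ((V.subgroupOf (ws V Z)).map (ph r))) :
    ∃ a ∈ centralizer (Z : Set G), ρ a = x ∧ a ∈ normalizer (V : Set G) ∧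
      ∃ s ∈ B₀, s * a ∈ centralizer (V : Set G) := by
  obtain ⟨a, ha, rfl⟩ := r.surjρ x
  obtain ⟨Y, hY, hYV, hne⟩ := h.exists_second h.isCj_self h.ZV
  obtain ⟨v, hv, hv1⟩ := h.pt_ne_bot hY
  have hvZ : v ∉ Z := fun e => hne (h.pts_eq hY h.isCj_self hv e hv1)
  have hvW : v ∈ ws V Z := h.V_le_ws h.ZV (hYV hv)
  have h1 : π (a * v * a⁻¹) = π v := by
    rw [r.act a ha v hvW]
    exact hx (π v) ((ph_V_mem h r).2 ⟨v, hYV hv, rfl⟩)
  have h2 : a * v * a⁻¹ * v⁻¹ ∈ Z := by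
    have h3 := cent_conj r ha hvW
    rw [← r.kerπ _ (mul_mem h3 (inv_mem hvW)), r.mulπ _ h3 _ (inv_mem hvW), pi_inv r hvW, h1, mul_inv_cancel]
  have hz : ∀ z ∈ Z, a * z = z * a := fun z hz => (mem_centralizer_iff.1 ha z hz).symm
  exact ⟨a, ha, rfl, h.mem_normalizer_of_lin hz (hYV hv) hvZ h2, h.lin' hz (hYV hv) hvZ h2⟩

omit [Finite G] h in
theorem o2_conj_of_norm {a : G} (haN : a ∈ normalizer (V : Set G)) :
    cj a (o2 (centralizer (V : Set G))) = o2 (centralizer (V : Set G)) := by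
  have h3 : MulAut.conj a • centralizer (V : Set G) = centralizer (V : Set G) := by
    have := cj_centralizer a V
    rwa [cj_eq_iff.2 haN] at this
  have h4 := MinSimple.CosetFam.o2_conj a (centralizer (V : Set G))
  rw [h3] at h4
  exact h4.symm

omit r in
theorem o2_le_B : o2 (centralizer (V : Set G)) ≤ B₀ := by
  have : Fact (Nat.Prime 2) := ⟨Nat.prime_two⟩
  have hSN : (S : Subgroup G) ≤ normalizer ((o2 (centralizer (V : Set G)) : Subgroup G) : Set G) := fun s hs =>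
    cj_eq_iff.1 (o2_conj_of_norm (h.PN (h.SP hs)))
  have h1 : IsPGroup 2 ((S : Subgroup G) ⊔ o2 (centralizer (V : Set G)) : Subgroup G) :=
    S.isPGroup'.to_sup_of_normal_right' (o2_isPGroup _) hSN
  have h2 := S.is_maximal' h1 le_sup_left
  have h3 : o2 (centralizer (V : Set G)) ≤ (S : Subgroup G) := by
    rw [← h2]
    exact le_sup_right
  rw [h.B_eq]
  exact le_inf h3 ((o2_le _).trans (centralizer_le h.ZV))

/-- the image of `B ≤ O₂(C_G(V))` is in `O₂(C_H(lam))` -/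
theorem img_le {B : Subgroup G} (hB : Off V V Z B) :
    img r (Off.le_cent h hB) ≤ o2 (fixer ((V.subgroupOf (ws V Z)).map (ph r))) := by
  have hC : o2 (centralizer (V : Set G)) ≤ centralizer (Z : Set G) := (o2_le _).trans (centralizer_le h.ZV)
  have h1 : img r (Off.le_cent h hB) ≤ img r hC := by
    intro x hx
    obtain ⟨b, hb, rfl⟩ := (mem_img r).1 hx
    exact mem_img_of r (hB.le hb)
  refine h1.trans (le_o2 ?_ ?_ ?_)
  · intro x hx m hm
    obtain ⟨b, hb, rfl⟩ := (mem_img r).1 hx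
    obtain ⟨v, hv, rfl⟩ := (ph_V_mem h r).1 hm
    rw [← r.act b (hC hb) v (h.V_le_ws h.ZV hv)]
    congr 1
    rw [← mem_centralizer_iff.1 (o2_le _ hb) v hv, mul_inv_cancel_right]
  · exact IsPGroup.of_surjective (o2_isPGroup (centralizer (V : Set G))) ((rh r).comp (inclusion hC)).rangeRestrict
      (MonoidHom.rangeRestrict_surjective _)
  · refine mem_normalizer_of_conj fun x hx y hy => ?_
    obtain ⟨a, ha, rfl, haN, -⟩ := lift_fixer h r hx
    obtain ⟨b, hb, rfl⟩ := (mem_img r).1 hy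
    rw [← rho_inv r ha, ← r.mulρ a ha b (hC hb), ← r.mulρ _ (mul_mem ha (hC hb)) _ (inv_mem ha)]
    refine mem_img_of r ?_
    rw [← o2_conj_of_norm haN]
    exact conj_mem_cj hb

/-- the image of `B₀` -/
def tt : Subgroup H := img r h.B_le

omit h in
theorem finite_H (r : Real V Z ρ π) : Finite H := by
  refine Finite.of_surjective (fun a : centralizer (Z : Set G) => ρ a) fun x => ?_
  obtain ⟨a, ha, hx⟩ := r.surjρ x
  exact ⟨⟨a, ha⟩, hx⟩

/-- `N_H(T)` comes from `N_G(V)` -/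
theorem norm_V (hf : kx V Z ≤ centralizer (V : Set G))
    {a : G}
    (ha : a ∈ centralizer (Z : Set G)) (hx : ρ a ∈ normalizer (tt h r : Set H)) : a ∈ normalizer (V : Set G) := by
  -- the preimage of `T`
  let N : Subgroup G := ((tt h r).comap (rh r)).map (centralizer (Z : Set G)).subtype
  have hNm : ∀ b, b ∈ N ↔ b ∈ centralizer (Z : Set G) ∧ ρ b ∈ tt h r := by
    intro b
    constructor
    · rintro ⟨c, hc, rfl⟩
      exact ⟨c.2, hc⟩
    · rintro ⟨hb, hb'⟩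
      exact ⟨⟨b, hb⟩, hb', rfl⟩
  have hSN : B₀ ≤ N := fun s hs => (hNm s).2 ⟨h.B_le hs, mem_img_of r hs⟩
  have hSN' : cj a B₀ ≤ N := by
    intro b hb
    have hb' : a⁻¹ * b * a ∈ B₀ := mem_cj.1 hb
    have h1 := (hNm _).2 ⟨h.B_le hb', mem_img_of r hb'⟩
    have h2 : b = a * (a⁻¹ * b * a) * a⁻¹ := by group
    have h3 : b ∈ centralizer (Z : Set G) := by
      rw [h2]
      exact mul_mem (mul_mem ha (h.B_le hb')) (inv_mem ha)
    refine (hNm b).2 ⟨h3, ?_⟩
    have h4 := (mem_normalizer_iff.1 hx (ρ (a⁻¹ * b * a))).1 (mem_img_of r hb')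
    rw [← rho_inv r ha, ← r.mulρ a ha _ (h.B_le hb'), ← r.mulρ _ (mul_mem ha (h.B_le hb')) _ (inv_mem ha),
      ← h2] at h4
    exact h4
  have hNV : N ≤ normalizer (V : Set G) := by
    intro b hb
    obtain ⟨hb1, hb2⟩ := (hNm b).1 hb
    obtain ⟨s, hs, hsb⟩ := (mem_img r).1 hb2
    have hsC := h.B_le hs
    have h1 : s⁻¹ * b ∈ kx V Z := by
      rw [← r.kerρ _ (mul_mem (inv_mem hsC) hb1), r.mulρ _ (inv_mem hsC) _ hb1, rho_inv r hsC, hsb,
        inv_mul_cancel]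
    have h2 : b = s * (s⁻¹ * b) := by group
    rw [h2]
    exact mul_mem (h.PN (h.BP hs)) (centralizer_le_normalizer _ (hf h1))
  obtain ⟨m, hm, h1⟩ := h.exists_conj hSN (fun b hb => ((hNm b).1 hb).1) hSN'
  have h2 : m⁻¹ * a ∈ normalizer (B₀ : Set G) := by
    rw [← cj_eq_iff, ← cj_cj, ← h1, cj_cj, inv_mul_cancel, cj_one]
  have h3 : a = m * (m⁻¹ * a) := by group
  rw [h3]
  exact mul_mem (hNV hm) (h.NB h2)

omit [Finite G] h r in
theorem le_of_index_le {W : Type*} [Group W] [Finite W] {D C : Subgroup W} (hDC : D ≤ C)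
    (he : D.index ≤ C.index) : C ≤ D := by
  have h1 := relIndex_mul_index hDC
  have h2 : C.index ≠ 0 := index_ne_zero_of_finite
  have h3 : D.relIndex C ≠ 0 := by
    rw [relIndex]
    exact index_ne_zero_of_finite
  have h4 : D.relIndex C * C.index ≤ 1 * C.index := by rw [one_mul, h1]; exact he
  have h5 := Nat.le_of_mul_le_mul_right h4 (Nat.pos_of_ne_zero h2)
  exact relIndex_eq_one.1 (by omega)

/-- **The contradiction at the base flag.** -/
theorem false_base (hf : kx V Z ≤ centralizer (V : Set G))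
    {B : Subgroup G} (hB : Off V V Z B)
    (hne : ¬ B ≤ centralizer (ws V Z : Set G))
    (hle : (centralizer (B : Set G)).relIndex (ws V Z) ≤ (centralizer (ws V Z : Set G)).relIndex B)
    (hNO : ∀ A : Subgroup H, A ≤ o2 (fixer ((V.subgroupOf (ws V Z)).map (ph r))) →
      (∀ a ∈ A, ∀ b ∈ A, a * b = b * a) → (∀ a ∈ A, a * a = 1) →
      (∀ a ∈ A, ∀ b ∈ A, ∀ m : M, b • ((a • m) * m⁻¹) = (a • m) * m⁻¹) → Nat.card A ≤ (zm M A).index)
    {Pi : Set (Subgroup H)} (hK : PSf (tt h r) ((V.subgroupOf (ws V Z)).map (ph r)) Pi) : False := by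
  have hBC := Off.le_cent h hB
  set A := img r hBC with hA
  have hkc := kx_le h hf
  have hke := kx_eq h hf
  have hcard : Nat.card A = (centralizer (ws V Z : Set G)).relIndex B := by rw [hA, card_img r hBC, hke]
  have hcomm : ∀ a ∈ A, ∀ b ∈ A, a * b = b * a := by
    intro x hx y hy
    obtain ⟨a, ha, rfl⟩ := (mem_img r).1 hx
    obtain ⟨b, hb, rfl⟩ := (mem_img r).1 hy
    rw [← r.mulρ _ (hBC ha) _ (hBC hb), ← r.mulρ _ (hBC hb) _ (hBC ha), hB.comm a ha b hb]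
  have hsq : ∀ a ∈ A, a * a = 1 := by
    intro x hx
    obtain ⟨a, ha, rfl⟩ := (mem_img r).1 hx
    rw [← r.mulρ _ (hBC ha) _ (hBC ha), hB.sq a ha, rho_one r]
  have hact : ∀ a ∈ B, ∀ w ∈ ws V Z, (ρ a • π w) * (π w)⁻¹ = π (a * w * a⁻¹ * w⁻¹) := by
    intro a ha w hw
    rw [← r.act a (hBC ha) w hw, ← pi_inv r hw, ← r.mulπ _ (cent_conj r (hBC ha) hw) _ (inv_mem hw)]
  have hcW : ∀ a ∈ B, ∀ w ∈ ws V Z, a * w * a⁻¹ * w⁻¹ ∈ ws V Z := fun a ha w hw =>
    mul_mem (cent_conj r (hBC ha) hw) (inv_mem hw)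
  have hquad : ∀ a ∈ A, ∀ b ∈ A, ∀ m : M, b • ((a • m) * m⁻¹) = (a • m) * m⁻¹ := by
    intro x hx y hy m
    obtain ⟨a, ha, rfl⟩ := (mem_img r).1 hx
    obtain ⟨b, hb, rfl⟩ := (mem_img r).1 hy
    obtain ⟨w, hw, rfl⟩ := r.surjπ m
    rw [hact a ha w hw, ← r.act b (hBC hb) _ (hcW a ha w hw), hB.comm b hb _ (hB.nor a ha w hw),
      mul_inv_cancel_right]
  have hAle : A ≤ o2 (fixer ((V.subgroupOf (ws V Z)).map (ph r))) := img_le h r hB
  have h1 := hNO A hAle hcomm hsq hquad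
  have hsurj : Function.Surjective (ph r) := fun m => by
    obtain ⟨w, hw, rfl⟩ := r.surjπ m
    exact ⟨⟨w, hw⟩, rfl⟩
  have h2 := index_comap_of_surjective (zm M A) hsurj
  have h3 : (centralizer (B : Set G)).subgroupOf (ws V Z) ≤ (zm M A).comap (ph r) := by
    intro w hw
    rw [mem_comap, mem_cv]
    intro x hx
    obtain ⟨a, ha, rfl⟩ := (mem_img r).1 hx
    have h4 := hact a ha w w.2
    have h5 : a * w * a⁻¹ * (w : G)⁻¹ = 1 := by
      have h6 := mem_centralizer_iff.1 (mem_subgroupOf.1 hw) a ha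
      rw [h6, mul_inv_cancel_right, mul_inv_cancel]
    rw [h5] at h4
    have h7 : π 1 = 1 := (ph r).map_one
    rw [h7, mul_inv_eq_one] at h4
    exact h4
  have h4 : ((zm M A).comap (ph r)).index ≤ ((centralizer (B : Set G)).subgroupOf (ws V Z)).index :=
    Nat.le_of_dvd (Nat.pos_of_ne_zero index_ne_zero_of_finite) (index_dvd_of_le h3)
  have h5 : ((centralizer (B : Set G)).subgroupOf (ws V Z)).index ≤ Nat.card A := by
    rw [hcard]; exact hle
  have h6 : (zm M A).comap (ph r) ≤ (centralizer (B : Set G)).subgroupOf (ws V Z) :=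
    le_of_index_le h3 (by omega)
  have hex : Exact ((V.subgroupOf (ws V Z)).map (ph r)) A := by
    refine ⟨fun e => hne fun b hb => ?_, hAle, hcomm, hsq, hquad, by omega⟩
    have h7 : ρ b ∈ A := mem_img_of r hb
    rw [e, mem_bot] at h7
    exact hkc ((r.kerρ b (hBC hb)).1 h7)
  obtain ⟨J, hJ⟩ := hK.kdat hex
  -- the action on `W`
  choose σ hσ1 hσ2 using r.surjρ
  let _ : CommGroup (ws V Z) :=
    { (inferInstance : Group (ws V Z)) with
      mul_comm := fun a b => Subtype.ext (mem_centralizer_iff.1 (h.Wcomm b.2) a a.2) }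
  let _ : MulDistribMulAction H (ws V Z) :=
    { smul := fun x w => ⟨σ x * w * (σ x)⁻¹, cent_conj r (hσ1 x) w.2⟩
      one_smul := fun w => Subtype.ext (by
        show σ 1 * (w : G) * (σ 1)⁻¹ = w
        rw [eq_of_rho r (hσ1 1) (one_mem _) hkc ((hσ2 1).trans (rho_one r).symm) w.2]
        group)
      mul_smul := fun x y w => Subtype.ext (by
        show σ (x * y) * (w : G) * (σ (x * y))⁻¹ = σ x * (σ y * w * (σ y)⁻¹) * (σ x)⁻¹
        rw [eq_of_rho r (hσ1 (x * y)) (mul_mem (hσ1 x) (hσ1 y)) hkc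
          (by rw [hσ2, r.mulρ _ (hσ1 x) _ (hσ1 y), hσ2, hσ2]) w.2]
        group)
      smul_mul := fun x w w' => Subtype.ext (by
        show σ x * ((w : G) * w') * (σ x)⁻¹ = σ x * w * (σ x)⁻¹ * (σ x * w' * (σ x)⁻¹)
        group)
      smul_one := fun x => Subtype.ext (by
        show σ x * (1 : G) * (σ x)⁻¹ = 1
        group) }
  have hsm : ∀ a ∈ centralizer (Z : Set G), ∀ w : ws V Z, ((ρ a • w : ws V Z) : G) = a * w * a⁻¹ := by
    intro a ha w
    show σ (ρ a) * (w : G) * (σ (ρ a))⁻¹ = a * w * a⁻¹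
    exact eq_of_rho r (hσ1 _) ha hkc (hσ2 _) w.2
  have D : FOneAbs.Dat (tt h r) (V.subgroupOf (ws V Z)) (Z.subgroupOf (ws V Z)) (ph r) := by
    refine ⟨finite_H r, fun w => r.kerπ w w.2, ?_, ?_, ?_, ?_, ?_, ?_, ?_⟩
    · intro x w
      show π (σ x * w * (σ x)⁻¹) = x • π w
      rw [r.act _ (hσ1 x) w w.2, hσ2]
    · intro x w hw
      refine Subtype.ext ?_
      show σ x * (w : G) * (σ x)⁻¹ = w
      rw [← mem_centralizer_iff.1 (hσ1 x) w hw, mul_inv_cancel_right]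
    · intro t ht v hv
      obtain ⟨s, hs, rfl⟩ := (mem_img r).1 ht
      rw [mem_subgroupOf]
      show ((ρ s • v : ws V Z) : G) * (v : G)⁻¹ ∈ Z
      rw [hsm s (h.B_le hs)]
      exact h.act s hs v hv
    · intro w hw
      exact h.ZV hw
    · intro t ht v hv hvZ e u hu
      obtain ⟨s, hs, rfl⟩ := (mem_img r).1 ht
      have e1 := congrArg Subtype.val e
      rw [hsm s (h.B_le hs)] at e1
      refine Subtype.ext ?_
      rw [hsm s (h.B_le hs)]
      have e2 := h.free s hs v hv (fun e => hvZ e) (mul_inv_eq_iff_eq_mul.1 e1) u hu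
      rw [e2, mul_inv_cancel_right]
    · obtain ⟨Y, hY, hYV, hYne⟩ := h.exists_second h.isCj_self h.ZV
      obtain ⟨v, hv, hv1⟩ := h.pt_ne_bot hY
      have hvZ : v ∉ Z := fun e => hYne (h.pts_eq hY h.isCj_self hv e hv1)
      obtain ⟨z, hz, hz1⟩ := h.pt_ne_bot h.isCj_self
      obtain ⟨s, hs, hsz⟩ := h.full v (hYV hv) hvZ z hz
      refine ⟨ρ s, mem_img_of r hs, ⟨v, h.V_le_ws h.ZV (hYV hv)⟩, hYV hv, fun e => hz1 ?_⟩
      have e1 := congrArg Subtype.val e
      rw [hsm s (h.B_le hs)] at e1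
      rw [← hsz, mul_inv_eq_one]
      exact e1
    · intro x hx v hv
      have h7 := norm_V h r hf (hσ1 x) (by rw [hσ2]; exact hx)
      rw [mem_subgroupOf]
      show σ x * (v : G) * (σ x)⁻¹ ∈ V
      exact (mem_normalizer_iff.1 h7 v).1 hv
  refine D.false_of hJ ?_ ?_
  · intro x hx
    obtain ⟨b, hb, rfl⟩ := (mem_img r).1 hx
    exact mem_img_of r (o2_le_B h (hB.le hb))
  · intro w hw x hx
    obtain ⟨b, hb, rfl⟩ := (mem_img r).1 hx
    have h7 : w ∈ (zm M A).comap (ph r) := by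
      rw [mem_comap, mem_cv]
      exact hw
    have h8 := mem_centralizer_iff.1 (mem_subgroupOf.1 (h6 h7)) b hb
    refine Subtype.ext ?_
    rw [hsm b (hBC hb), h8, mul_inv_cancel_right]

/-! ### Critical pairs -/

omit r

/-- `W_x` at the last flag of the walk from `x` to `y` -/
theorem off_of_crit {n : ℕ} (hn : 1 ≤ n) {x y : Pt Z}
    (hc : Crit (PtGeom.inc (Z := Z) (V := V)) (fun x : Pt Z => ws V x.sg) n x y) :
    ∃ g : G, y.sg = cj g Z ∧ Off V (cj g V) (cj g Z) (ws V x.sg) := by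
  have D := FOneGeo.geo h
  obtain ⟨c, l, hw, hcl, hyl⟩ := hc.last hn
  obtain ⟨c', l', hw', hcl', hxl'⟩ := hc.symm.last hn
  obtain ⟨g, hg1, hg2⟩ := exists_conj_flag h y.isCj l.isCj hyl
  refine ⟨g, hg1, ?_⟩
  rw [← hg1, ← hg2]
  have hcom : Com (fun x : Pt Z => ws V x.sg) x c := hc.com_last hn hw
  have hcom' : Com (fun x : Pt Z => ws V x.sg) y c' := hc.symm.com_last hn hw'
  refine ⟨D.low_line hc.min hw (by omega) hcom hcl, D.comm x, D.sq x, fun b hb w hw1 => ?_⟩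
  have h1 : w • x = x := D.fix_of_centralizes fun a ha =>
    hcom' w hw1 a (D.V_le c' l' hcl' (D.R_le x l' hxl' ha))
  have e : b * w * b⁻¹ * w⁻¹ = b * (w * b⁻¹ * w⁻¹) := by group
  rw [e]
  exact mul_mem hb (D.norm_W h1 (inv_mem hb))

omit h [Finite G] in
theorem cent_relIndex_conj (g : G) (A B : Subgroup G) :
    (centralizer ((cj g A : Subgroup G) : Set G)).relIndex (cj g B) = (centralizer (A : Set G)).relIndex B := by
  rw [← cj_centralizer]
  exact relIndex_pointwise_smul _ _ _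

include r

/-- the inequality at the base flag -/
theorem relIndex_le (hf : kx V Z ≤ centralizer (V : Set G)) {B : Subgroup G} (hB : Off V V Z B)
    (hNO : ∀ A : Subgroup H, A ≤ o2 (fixer ((V.subgroupOf (ws V Z)).map (ph r))) →
      (∀ a ∈ A, ∀ b ∈ A, a * b = b * a) → (∀ a ∈ A, a * a = 1) →
      (∀ a ∈ A, ∀ b ∈ A, ∀ m : M, b • ((a • m) * m⁻¹) = (a • m) * m⁻¹) → Nat.card A ≤ (zm M A).index) :
    (centralizer (ws V Z : Set G)).relIndex B ≤ (centralizer (B : Set G)).relIndex (ws V Z) := by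
  have hBC := Off.le_cent h hB
  set A := img r hBC with hA
  have hke := kx_eq h hf
  have hcard : Nat.card A = (centralizer (ws V Z : Set G)).relIndex B := by rw [hA, card_img r hBC, hke]
  have hcomm : ∀ a ∈ A, ∀ b ∈ A, a * b = b * a := by
    intro x hx y hy
    obtain ⟨a, ha, rfl⟩ := (mem_img r).1 hx
    obtain ⟨b, hb, rfl⟩ := (mem_img r).1 hy
    rw [← r.mulρ _ (hBC ha) _ (hBC hb), ← r.mulρ _ (hBC hb) _ (hBC ha), hB.comm a ha b hb]
  have hsq : ∀ a ∈ A, a * a = 1 := by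
    intro x hx
    obtain ⟨a, ha, rfl⟩ := (mem_img r).1 hx
    rw [← r.mulρ _ (hBC ha) _ (hBC ha), hB.sq a ha, rho_one r]
  have hact : ∀ a ∈ B, ∀ w ∈ ws V Z, (ρ a • π w) * (π w)⁻¹ = π (a * w * a⁻¹ * w⁻¹) := by
    intro a ha w hw
    rw [← r.act a (hBC ha) w hw, ← pi_inv r hw, ← r.mulπ _ (cent_conj r (hBC ha) hw) _ (inv_mem hw)]
  have hcW : ∀ a ∈ B, ∀ w ∈ ws V Z, a * w * a⁻¹ * w⁻¹ ∈ ws V Z := fun a ha w hw =>
    mul_mem (cent_conj r (hBC ha) hw) (inv_mem hw)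
  have hquad : ∀ a ∈ A, ∀ b ∈ A, ∀ m : M, b • ((a • m) * m⁻¹) = (a • m) * m⁻¹ := by
    intro x hx y hy m
    obtain ⟨a, ha, rfl⟩ := (mem_img r).1 hx
    obtain ⟨b, hb, rfl⟩ := (mem_img r).1 hy
    obtain ⟨w, hw, rfl⟩ := r.surjπ m
    rw [hact a ha w hw, ← r.act b (hBC hb) _ (hcW a ha w hw), hB.comm b hb _ (hB.nor a ha w hw),
      mul_inv_cancel_right]
  have h1 := hNO A (img_le h r hB) hcomm hsq hquad
  have hsurj : Function.Surjective (ph r) := fun m => by
    obtain ⟨w, hw, rfl⟩ := r.surjπ m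
    exact ⟨⟨w, hw⟩, rfl⟩
  have h2 := index_comap_of_surjective (zm M A) hsurj
  have h3 : (centralizer (B : Set G)).subgroupOf (ws V Z) ≤ (zm M A).comap (ph r) := by
    intro w hw
    rw [mem_comap, mem_cv]
    intro x hx
    obtain ⟨a, ha, rfl⟩ := (mem_img r).1 hx
    have h4 := hact a ha w w.2
    have h5 : a * w * a⁻¹ * (w : G)⁻¹ = 1 := by
      have h6 := mem_centralizer_iff.1 (mem_subgroupOf.1 hw) a ha
      rw [h6, mul_inv_cancel_right, mul_inv_cancel]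
    rw [h5] at h4
    have h7 : π 1 = 1 := (ph r).map_one
    rw [h7, mul_inv_eq_one] at h4
    exact h4
  have h4 : ((zm M A).comap (ph r)).index ≤ ((centralizer (B : Set G)).subgroupOf (ws V Z)).index :=
    Nat.le_of_dvd (Nat.pos_of_ne_zero index_ne_zero_of_finite) (index_dvd_of_le h3)
  rw [← hcard]
  exact h1.trans (h2.ge.trans h4)

/-- **(F1) for `q ≥ 4`.** -/
theorem hf_of {n : ℕ} (hn : 1 ≤ n)
    {x y : Pt Z} (hc : Crit (PtGeom.inc (Z := Z) (V := V)) (fun x : Pt Z => ws V x.sg) n x y)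
    {T : Subgroup H} (hT : ∀ x, x ∈ T ↔ ∃ s ∈ B₀, ρ s = x)
    {lam : Subgroup M} (hlam : ∀ m, m ∈ lam ↔ ∃ v ∈ V, π v = m)
    (hNO : ∀ A : Subgroup H, A ≤ o2 (fixer lam) →
      (∀ a ∈ A, ∀ b ∈ A, a * b = b * a) → (∀ a ∈ A, a * a = 1) →
      (∀ a ∈ A, ∀ b ∈ A, ∀ m : M, b • ((a • m) * m⁻¹) = (a • m) * m⁻¹) → Nat.card A ≤ (zm M A).index)
    {Pi : Set (Subgroup H)} (hK : PSf T lam Pi) : ¬ kx V Z ≤ centralizer (V : Set G) := by
  intro hf
  obtain rfl : T = tt h r := by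
    ext x
    rw [hT]
    exact (mem_img r).symm
  obtain rfl : lam = (V.subgroupOf (ws V Z)).map (ph r) := by
    ext m
    rw [hlam, ph_V_mem h r]
  obtain ⟨g, hg, hB⟩ := off_of_crit h hn hc
  obtain ⟨g', hg', hB'⟩ := off_of_crit h hn hc.symm
  have hb := hB.conj g⁻¹
  have hb' := hB'.conj g'⁻¹
  rw [cj_cj, cj_cj, inv_mul_cancel, cj_one, cj_one] at hb hb'
  have h1 := relIndex_le h r hf hb' hNO
  -- `|W_y : C(W_x)| ≤ |W_x : C(W_y)|`
  have e1 : cj g (cj g⁻¹ (ws V x.sg)) = ws V x.sg := by rw [cj_cj, mul_inv_cancel, cj_one]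
  have e2 : cj g' (cj g'⁻¹ (ws V y.sg)) = ws V y.sg := by rw [cj_cj, mul_inv_cancel, cj_one]
  have e3 : ws V y.sg = cj g (ws V Z) := by rw [hg, ws_cj]
  have e4 : ws V x.sg = cj g' (ws V Z) := by rw [hg', ws_cj]
  rw [← cent_relIndex_conj g' (ws V Z), ← cent_relIndex_conj g' (cj g'⁻¹ (ws V y.sg)), e2, ← e4] at h1
  refine false_base h r hf hb ?_ ?_ hNO hK
  · intro hcon
    apply hc.ne
    intro a ha b hbm
    have h2 : ws V x.sg ≤ centralizer (ws V y.sg : Set G) := by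
      rw [← e1, e3, ← cj_centralizer, cj_le_cj]
      exact hcon
    exact (mem_centralizer_iff.1 (h2 ha) b hbm).symm
  · rw [← cent_relIndex_conj g (ws V Z), ← cent_relIndex_conj g (cj g⁻¹ (ws V x.sg)), e1, ← e3]
    exact h1

end main

end Cfsg.Agent.Omega.NO3S.FarB.FOne

end

section


/-!
# NO-3S, `q ≥ 4`: the instance of `RD` over the `(R, B)`-frame (copy of `FarQ/Real.lean`)

* `exists_rd` : `PB S B P V Z`, (F1), (T6) and `|Z| ≥ 4` give `RD` at the base flag `(Z, V)`.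
-/

set_option autoImplicit false
set_option linter.unusedSectionVars false

namespace Cfsg.Agent.Omega.NO3S.FarB

open Subgroup Cfsg Cfsg.Agent.ZN Cfsg.Agent.MinSimple.VModule Cfsg.Agent.Omega.NOThree.Pts
open Cfsg.Agent.Omega.NO3S.FarQ
open Cfsg.Agent.Omega.NO3S.FarQ.Glue Cfsg.Agent.Omega.NO3S.PT Cfsg.Agent.Omega.NO3S.PtGeom
open Cfsg.Agent.Omega.NO3S.PB.Geom
open scoped Pointwise

universe u

variable {G : Type u} [Group G]

section

variable [Finite G] {S : Sylow 2 G} {B P V Z : Subgroup G} (h : PB S B P V Z)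
include h

theorem line_base {X : Subgroup G} (hX : IsCj Z X) (hXV : X ≤ V) (hne : X ≠ Z) {v : G} (hv : v ∈ V) :
    ∃ r ∈ Z, ∃ r' ∈ X, v = r * r' := h.exists_mul h.isCj_self h.ZV hX hXV hne.symm hv

set_option maxHeartbeats 1000000 in
/-- **The instance.** -/
theorem exists_rd (hf : ¬ kx V Z ≤ centralizer (V : Set G)) (hO : OmB B V)
    (hq : 4 ≤ Nat.card Z) :
    ∃ (H M K : Type u) (_ : Group H) (_ : CommGroup M) (_ : MulDistribMulAction H M) (_ : CommGroup K)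
      (ρ : G → H) (π : G → M) (ζ : K →* G) (T : Subgroup H) (lam U : Subgroup M) (Kh : Subgroup (M →* K)),
      RD (inc (Z := Z) (V := V)) (fun x => x.sg) (fun x => ws V x.sg) (fun l => l.sg) (Pt.base Z) (Pt.base V)
        B ρ π ζ T lam U Kh := by
  have D := PB.Geom.geom h hf hO
  have hWn := normalizer_le_ws V Z
  have hCn : centralizer (Z : Set G) ≤ normalizer (Z : Set G) := centralizer_le_normalizer _
  have hWcomm : ∀ a ∈ ws V Z, ∀ b ∈ ws V Z, a * b = b * a := fun a ha b hb =>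
    (mem_centralizer_iff.1 (h.Wcomm ha) b hb).symm
  obtain ⟨H, M, iH, iM, iA, ρ, π, hρm, hρs, hρk, hπm, hπs, hπk, hact⟩ := exists_mod (C := centralizer (Z : Set G))
    (W := ws V Z) (R := Z) (fun c hc w hw => (mem_normalizer_iff.1 (hWn (hCn hc)) w).1 hw)
    (fun c hc w hw => (mem_normalizer_iff.1 (hCn hc) w).1 hw) hWcomm
  obtain ⟨K, iK, ζ, hinj, hran⟩ := exists_group (Z := Z) fun a ha b hb => h.Vcomm (h.ZV ha) (h.ZV hb)
  have Re : Four.Real (fun x : Pt Z => x.sg) (fun x => ws V x.sg) (Pt.base Z) ρ π :=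
    ⟨hρm, hρs, hρk, hπm, hπs, hπk, hact⟩
  have hran' : ∀ g, g ∈ (fun x : Pt Z => x.sg) (Pt.base Z) ↔ ∃ r, ζ r = g := hran
  have hVW : V ≤ ws V Z := h.V_le_ws h.ZV
  have hS : B ≤ centralizer (Z : Set G) := h.B_le
  have hcen : ∀ {k}, k ∈ centralizer (Z : Set G) → ∀ z ∈ Z, k * z = z * k := fun hk z hz =>
    (mem_centralizer_iff.1 hk z hz).symm
  have hcm : ∀ {g w : G}, g ∈ centralizer (Z : Set G) → w ∈ ws V Z →
      (g * w * g⁻¹ * w⁻¹ ∈ Z ↔ ρ g • π w = π w) := fun hg hw => comm_mem_iff Re D hg hw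
  let T : Subgroup H := im Re B hS
  let lam : Subgroup M := pim Re V hVW
  let U : Subgroup M := pim Re (IV V Z) h.IV_le_ws
  let Kh : Subgroup (M →* K) := khat (W := fun x : Pt Z => ws V x.sg) π hran'
  have hlam : ∀ m, m ∈ lam ↔ ∃ v ∈ V, π v = m := fun m => Iff.rfl
  have hlam1 : ∀ v ∈ V, π v ≠ 1 → v ∉ Z := fun v hv hv1 hvZ => hv1 ((hπk v (hVW hv)).2 hvZ)
  have hKx : ∀ k ∈ kx V Z, k ∈ centralizer (Z : Set G) ∧ ∀ w ∈ ws V Z, k * w * k⁻¹ * w⁻¹ ∈ Z := fun k hk =>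
    ⟨kx_le_cent hk, (mem_kx.1 hk).2⟩
  have hexK : ∀ k ∈ kx V Z, ∃ φ ∈ Kh, ∀ w ∈ ws V Z, k * w * k⁻¹ * w⁻¹ = ζ (φ (π w)) := fun k hk =>
    exists_khat Re hran' D hinj h.Z_le_ws (hKx k hk).1 (hKx k hk).2
  have hfinH : Finite H := Finite.of_surjective ρ fun x => by
    obtain ⟨g, -, hg⟩ := hρs x
    exact ⟨g, hg⟩
  have hfinM : Finite M := Finite.of_surjective π fun x => by
    obtain ⟨g, -, hg⟩ := hπs x
    exact ⟨g, hg⟩
  -- cardinality of `lam`
  have hcard : Nat.card lam = Nat.card Z := by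
    let φ : V →* M := MonoidHom.mk' (fun a => π a) (fun a b => hπm a (hVW a.2) b (hVW b.2))
    have h1 := Subgroup.card_mul_index φ.ker
    rw [Subgroup.index_ker] at h1
    have h2 : φ.range = lam := by
      ext m
      constructor
      · rintro ⟨a, rfl⟩
        exact ⟨a, a.2, rfl⟩
      · rintro ⟨a, ha, rfl⟩
        exact ⟨⟨a, ha⟩, rfl⟩
    have h3 : Nat.card φ.ker = Nat.card Z := by
      refine Nat.card_congr ⟨fun x => ⟨x, ?_⟩, fun x => ⟨⟨x, h.ZV x.2⟩, ?_⟩, fun x => rfl, fun x => rfl⟩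
      · exact (hπk _ (hVW x.1.2)).1 x.2
      · exact (hπk _ (hVW (h.ZV x.2))).2 x.2
    rw [h2, h3, h.card] at h1
    exact Nat.eq_of_mul_eq_mul_left Nat.card_pos h1
  have hcardK : Nat.card K = Nat.card Z := by
    refine Nat.card_congr ⟨fun x => ⟨ζ x, (hran _).2 ⟨x, rfl⟩⟩, fun x => ((hran _).1 x.2).choose,
      fun x => ?_, fun x => ?_⟩
    · exact hinj ((hran (ζ x)).1 ((hran _).2 ⟨x, rfl⟩)).choose_spec
    · exact Subtype.ext ((hran _).1 x.2).choose_spec
  have hflag : Flag T lam U Kh := by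
    refine ⟨hfinH, hfinM, ?_, ?_, hcardK.trans hcard.symm, ?_, ?_, ?_, hcard.symm ▸ hq, ?_, ?_, ?_, ?_, ?_, ?_,
      ?_, ?_, ?_⟩
    · -- sq
      intro m
      obtain ⟨w, hw, rfl⟩ := hπs m
      rw [← hπm w hw w hw, h.ws_sq w hw]
      exact π_one Re
    · -- sqR
      intro r
      apply hinj
      rw [map_mul, map_one]
      exact h.Vsq _ (h.ZV ((hran _).2 ⟨r, rfl⟩))
    · -- faith
      intro x hx
      obtain ⟨g, hg, rfl⟩ := hρs x
      exact (hρk g hg).2 fun w hw => (hcm hg hw).2 (hx _)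
    · -- two
      rintro ⟨_, s, hs, rfl⟩
      obtain ⟨k, hk⟩ := h.isPGroup_B ⟨s, hs⟩
      have hk' : s ^ 2 ^ k = 1 := congrArg Subtype.val hk
      refine ⟨k, Subtype.ext ?_⟩
      show ρ s ^ 2 ^ k = 1
      have hpow : ∀ j : ℕ, ρ (s ^ j) = ρ s ^ j := by
        intro j
        induction j with
        | zero => rw [pow_zero, pow_zero, Re.one]
        | succ j ih => rw [pow_succ, pow_succ, hρm _ (pow_mem (hS hs) j) _ (hS hs), ih]
      rw [← hpow, hk', Re.one]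
    · -- ndvd
      have : Fact (Nat.Prime 2) := ⟨Nat.prime_two⟩
      let f : centralizer (Z : Set G) →* H := MonoidHom.mk' (fun a => ρ a) (fun a b => hρm a a.2 b b.2)
      have hfs : Function.Surjective f := fun x => by
        obtain ⟨g, hg, rfl⟩ := hρs x
        exact ⟨⟨g, hg⟩, rfl⟩
      obtain ⟨TB, hTB⟩ := h.exists_syl hS le_rfl
      let T' : Sylow 2 H := TB.mapSurjective hfs
      have hT' : (T' : Subgroup H) = T := by
        ext x
        have hx : x ∈ (T' : Subgroup H) ↔ x ∈ (TB : Subgroup (centralizer (Z : Set G))).map f := Iff.rfl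
        rw [hx, hTB]
        constructor
        · rintro ⟨g, hg, rfl⟩
          exact ⟨g, mem_subgroupOf.1 hg, rfl⟩
        · rintro ⟨g, hg, rfl⟩
          exact ⟨⟨g, hS hg⟩, mem_subgroupOf.2 hg, rfl⟩
      rw [← hT']
      exact T'.not_dvd_index
    · -- fix
      rintro _ ⟨s, hs, rfl⟩ _ ⟨v, hv, rfl⟩
      exact (hcm (hS hs) (hVW hv)).1 (h.act s hs v hv)
    · -- norm
      rintro x hx _ ⟨v, hv, rfl⟩
      obtain ⟨g, hg, rfl⟩ := hρs x
      have hSK : B ≤ normalizer ((kx V Z : Subgroup G) : Set G) :=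
        h.B_le_N.trans (normalizer_le_kx V Z)
      have h1 : cj g B ≤ kx V Z ⊔ B := by
        intro y hy
        rw [mem_cj] at hy
        have hyC : y ∈ centralizer (Z : Set G) := by
          have := mul_mem (mul_mem hg (hS hy)) (inv_mem hg)
          have e : g * (g⁻¹ * y * g) * g⁻¹ = y := by group
          rwa [e] at this
        have h2 : ρ g * ρ (g⁻¹ * y * g) * (ρ g)⁻¹ ∈ T := (mem_normalizer_iff.1 hx _).1 ⟨_, hy, rfl⟩
        have h3 : ρ g * ρ (g⁻¹ * y * g) * (ρ g)⁻¹ = ρ y := by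
          have h4 := Re.conj hg (hS hy)
          rw [← h4]
          congr 1; group
        rw [h3] at h2
        obtain ⟨s, hs, hs'⟩ := h2
        have h5 : y * s⁻¹ ∈ kx V Z := by
          have h6 : ρ (y * s⁻¹) = 1 := by
            rw [hρm y hyC s⁻¹ (inv_mem (hS hs)), Re.inv (hS hs), hs', mul_inv_cancel]
          have h7 := (hρk _ (mul_mem hyC (inv_mem (hS hs)))).1 h6
          exact mem_kx.2 ⟨fun z hz => hcen (mul_mem hyC (inv_mem (hS hs))) z hz, h7⟩
        have h8 : y = y * s⁻¹ * s := by group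
        rw [h8]
        exact mul_mem (mem_sup_left h5) (mem_sup_right hs)
      obtain ⟨b, hb, hbS⟩ := h.exists_conj (H := kx V Z ⊔ B) le_sup_right
        (sup_le (fun x hx => (hKx x hx).1) hS) h1
      rw [← SetLike.mem_coe, coe_mul_of_right_le_normalizer_left _ _ hSK] at hb
      obtain ⟨k, hk, s, hs, rfl⟩ := hb
      have h2 : k⁻¹ * g ∈ normalizer (B : Set G) := by
        have h3 : cj (k * s) B = cj g B := hbS
        rw [← cj_cj, cj_eq_iff.2 (le_normalizer hs)] at h3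
        rw [← cj_eq_iff, ← cj_cj, ← h3, cj_cj, inv_mul_cancel, cj_one]
      have hkC := (hKx k hk).1
      have h4 : ρ (k⁻¹ * g) = ρ g := by
        rw [hρm _ (inv_mem hkC) g hg, Re.inv hkC, (hρk k hkC).2 (hKx k hk).2, inv_one, one_mul]
      have h5 := (mem_normalizer_iff.1 (h.NB h2) v).1 hv
      refine ⟨_, h5, ?_⟩
      rw [hact _ (mul_mem (inv_mem hkC) hg) v (hVW hv), h4]
    · -- lin
      rintro _ ⟨v, hv, rfl⟩ hv1 x hx _ ⟨u, hu, rfl⟩
      obtain ⟨g, hg, rfl⟩ := hρs x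
      have hvZ := hlam1 v hv hv1
      rw [← hcm hg (hVW hv)] at hx
      rw [← hcm hg (hVW hu)]
      exact h.lin (hcen hg) hv hvZ hx u hu
    · -- gen
      intro N hN
      let E : Subgroup G :=
        { carrier := {w | w ∈ ws V Z ∧ π w ∈ N}
          one_mem' := ⟨one_mem _, by
            have e : π 1 = 1 := π_one Re
            rw [e]; exact one_mem _⟩
          mul_mem' := by
            rintro a b ⟨ha, ha'⟩ ⟨hb, hb'⟩
            exact ⟨mul_mem ha hb, by rw [hπm a ha b hb]; exact mul_mem ha' hb'⟩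
          inv_mem' := by
            rintro a ⟨ha, ha'⟩
            refine ⟨inv_mem ha, ?_⟩
            have e : π a⁻¹ = (π a)⁻¹ := π_inv Re ha
            rw [e]; exact inv_mem ha' }
      have hE : ws V Z ≤ E := by
        refine ws_le fun L hL hZL => ?_
        obtain ⟨c, hc, rfl⟩ := h.exists_cent_line hL hZL
        intro w hw
        refine ⟨le_ws hL hZL hw, ?_⟩
        have hw' := mem_cj.1 hw
        have e : c * (c⁻¹ * w * c) * c⁻¹ = w := by group
        have h1 := hact c hc _ (hVW hw')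
        rw [e] at h1
        rw [h1]
        exact hN _ _ ⟨_, hw', rfl⟩
      rw [eq_top_iff]
      intro m _
      obtain ⟨w, hw, rfl⟩ := hπs m
      exact (hE hw).2
    · -- le
      rintro _ ⟨v, hv, rfl⟩
      exact ⟨v, h.V_le_IV hv, rfl⟩
    · -- uu
      rintro _ ⟨u, hu, rfl⟩ huV _ ⟨v, hv, rfl⟩
      have huV' : u ∉ V := fun e => huV ⟨u, e, rfl⟩
      obtain ⟨c, -, hcV, hcu⟩ := h.F2 hf hO hu huV' hv
      have hcC : c ∈ centralizer (Z : Set G) := centralizer_le h.ZV hcV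
      refine ⟨ρ c, ?_⟩
      rw [← hact c hcC u (h.IV_le_ws hu)]
      have e : c * u * c⁻¹ = v * u := by rw [← hcu]; group
      rw [e, hπm v (hVW hv) u (h.IV_le_ws hu), mul_comm]
    · -- kh
      rintro φ ⟨k, hk, hk'⟩ x
      obtain ⟨g, hg, rfl⟩ := hρs x
      refine ⟨φ.comp (MulDistribMulAction.toMonoidHom M (ρ g)), ⟨g⁻¹ * k * g, mul_mem (mul_mem (inv_mem hg) hk) hg,
        fun w hw => ?_⟩, fun m => rfl⟩
      have h1 := hk' (g * w * g⁻¹) ((mem_normalizer_iff.1 (hWn (hCn hg)) w).1 hw)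
      have h2 : ζ (φ (π (g * w * g⁻¹))) ∈ Z := (hran _).2 ⟨_, rfl⟩
      have h3 := mem_centralizer_iff.1 (inv_mem hg) _ h2
      calc g⁻¹ * k * g * w * (g⁻¹ * k * g)⁻¹ * w⁻¹
          = g⁻¹ * (k * (g * w * g⁻¹) * k⁻¹ * (g * w * g⁻¹)⁻¹) * g := by group
        _ = ζ (φ (π (g * w * g⁻¹))) := by rw [h1, ← h3, inv_mul_cancel_right]
        _ = ζ ((φ.comp (MulDistribMulAction.toMonoidHom M (ρ g))) (π w)) := by
            rw [hact g hg w hw]; rfl
    · -- f1
      rintro _ ⟨v, hv, rfl⟩ hv1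
      have hvZ := hlam1 v hv hv1
      obtain ⟨z, hz, hz1⟩ := h.pt_ne_bot h.isCj_self
      obtain ⟨k, hk, -, hkv⟩ := h.K_act hf hv hvZ hz
      obtain ⟨φ, hφ, hφk⟩ := hexK k hk
      refine ⟨φ, hφ, fun e => hz1 ?_⟩
      rw [← hkv, hφk v (hVW hv), e, map_one]
    · -- ti
      rintro φ ⟨k, hk, hk'⟩ _ ⟨v, hv, rfl⟩ hv1 hφ _ ⟨u, hu, rfl⟩
      have hvZ := hlam1 v hv hv1
      have h1 := hk' v (hVW hv)
      rw [hφ, map_one, mul_inv_eq_one, mul_inv_eq_iff_eq_mul] at h1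
      have h2 := h.mem_centralizer_of_fix (hcen hk) hv hvZ h1
      apply hinj
      rw [← hk' u (hVW hu), map_one, mul_inv_eq_one, mul_inv_eq_iff_eq_mul]
      exact (mem_centralizer_iff.1 h2 u hu).symm
  refine ⟨H, M, K, iH, iM, iA, iK, ρ, π, ζ, T, lam, U, Kh, ?_⟩
  refine { re := Re, pl := h.ZV, mlam := fun m => Iff.rfl, mU := ?_, cov := ?_, flag := hflag, sy := hS,
           mT := fun t => Iff.rfl, cen := ?_, inj := hinj, ran := hran, kh := fun φ hφ => hφ,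
           kh' := ?_, line := ?_, tr := ?_ }
  · -- mU
    intro m
    constructor
    · rintro ⟨u, hu, rfl⟩
      exact ⟨u, h.IV_le_ws hu, fun y hy => IV_le y.isCj hy hu, rfl⟩
    · rintro ⟨u, -, hu', rfl⟩
      refine ⟨u, ?_, rfl⟩
      rw [IV, Subgroup.mem_sInf]
      rintro _ ⟨Y, hY, hYV, rfl⟩
      exact hu' (Pt.mk hY) hYV
  · -- cov
    intro c hc
    obtain ⟨g, hg, rfl⟩ := hρs c
    obtain ⟨v, hv, hvZ⟩ := h.exists_out
    have h1 : g * v * g⁻¹ * v⁻¹ ∈ Z := (hcm hg (hVW hv)).2 (hc _ ⟨v, hv, rfl⟩)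
    obtain ⟨k, hk, -, hkv⟩ := h.K_act hf hv hvZ (Z.inv_mem h1)
    have hkC := (hKx k hk).1
    have h2 : k * g * v = v * (k * g) := by
      have e1 : g * v * g⁻¹ = (g * v * g⁻¹ * v⁻¹) * v := by group
      have e2 : k * v * k⁻¹ = (g * v * g⁻¹ * v⁻¹)⁻¹ * v := by rw [← hkv]; group
      have e3 := hcen hkC _ h1
      rw [← mul_inv_eq_iff_eq_mul]
      calc k * g * v * (k * g)⁻¹ = k * (g * v * g⁻¹) * k⁻¹ := by group
        _ = k * (g * v * g⁻¹ * v⁻¹) * v * k⁻¹ := by rw [e1]; group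
        _ = (g * v * g⁻¹ * v⁻¹) * (k * v * k⁻¹) := by rw [e3]; group
        _ = v := by rw [e2]; group
    refine ⟨k * g, h.mem_centralizer_of_fix (hcen (mul_mem hkC hg)) hv hvZ h2, ?_⟩
    rw [hρm k hkC g hg, (hρk k hkC).2 (hKx k hk).2, one_mul]
  · -- cen
    intro w hw hws
    exact h.omega w (h.ws_le_B hw) (h.ws_sq w hw) hws
  · -- kh'
    intro k hk hk'
    exact exists_khat Re hran' D hinj h.Z_le_ws hk hk'
  · -- line
    intro x hx hxp v hv
    exact line_base h x.isCj hx (fun e => hxp (Pt.ext e)) hv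
  · -- tr
    intro x y hx hxp hy hyp
    obtain ⟨k, hk, -, hk'⟩ := h.K_trans hf y.isCj hy x.isCj hx (fun e => hyp (Pt.ext e)) (fun e => hxp (Pt.ext e))
    exact ⟨k, (hKx k hk).1, (hKx k hk).2, Pt.ext hk'⟩

/-- every flag of `PtGeom` is conjugate to the base flag -/
theorem exists_smul_flag {x : Pt Z} {l : Pt V} (hxl : inc x l) : ∃ g : G, x = g • Pt.base Z ∧ l = g • Pt.base V := by
  obtain ⟨g, h1, h2⟩ := PB.Geom.exists_conj_flag h x.isCj l.isCj hxl
  exact ⟨g, Pt.ext h1, Pt.ext h2⟩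

end

end Cfsg.Agent.Omega.NO3S.FarB

end

section


/-!
# NO-3S, `q ≥ 4`: (F1) from the K-input, over the `(R, B)`-frame (copy of `FarQ/FlagK.lean`)

* `flagK_of` : `FlagK` from `PB`;
* `hf_of_kin` : (F1).
-/

set_option autoImplicit false
set_option linter.unusedSectionVars false

namespace Cfsg.Agent.Omega.NO3S.FarB

open Subgroup Cfsg Cfsg.Agent.ZN Cfsg.Agent.MinSimple.VModule Cfsg.Agent.Omega.NOThree.Pts
open Cfsg.Agent.Omega.NO3S.FarQ (FlagK NoOv PSall KNO KPS Img Real exists_mod exists_group)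
open Cfsg.Agent.Omega.NO3S.FarQ.Glue Cfsg.Agent.Omega.NO3S.PT Cfsg.Agent.Omega.NO3S.PtGeom
open scoped Pointwise

universe u

variable {G : Type u} [Group G]

section

variable [Finite G] {S : Sylow 2 G} {B P V Z : Subgroup G} (h : PB S B P V Z)
include h

/-- the geometry without (F1): conjugation by `C_G(Z)` -/
theorem norm_ws {g w : G} (hg : g ∈ centralizer (Z : Set G)) (hw : w ∈ ws V Z) : g * w * g⁻¹ ∈ ws V Z :=
  (mem_normalizer_iff.1 (normalizer_le_ws V Z (centralizer_le_normalizer _ hg)) w).1 hw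

theorem real_one {H M : Type*} [Group H] [CommGroup M] [MulDistribMulAction H M] {ρ : G → H} {π : G → M}
    (r : Real V Z ρ π) : π 1 = 1 := (r.kerπ 1 (one_mem _)).2 (one_mem _)

theorem real_inv {H M : Type*} [Group H] [CommGroup M] [MulDistribMulAction H M] {ρ : G → H} {π : G → M}
    (r : Real V Z ρ π) {v : G} (hv : v ∈ ws V Z) : π v⁻¹ = (π v)⁻¹ := by
  have h4 := r.mulπ v hv v⁻¹ (inv_mem hv)
  rw [mul_inv_cancel, real_one h r] at h4
  exact (inv_eq_of_mul_eq_one_right h4.symm).symm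

theorem real_comm {H M : Type*} [Group H] [CommGroup M] [MulDistribMulAction H M] {ρ : G → H} {π : G → M}
    (r : Real V Z ρ π) {g w : G} (hg : g ∈ centralizer (Z : Set G)) (hw : w ∈ ws V Z) :
    g * w * g⁻¹ * w⁻¹ ∈ Z ↔ ρ g • π w = π w := by
  have h1 := norm_ws h hg hw
  rw [← r.kerπ _ (mul_mem h1 (inv_mem hw)), r.mulπ _ h1 _ (inv_mem hw), r.act g hg w hw, real_inv h r hw,
    mul_inv_eq_one]

theorem real_ρone {H M : Type*} [Group H] [CommGroup M] [MulDistribMulAction H M] {ρ : G → H} {π : G → M}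
    (r : Real V Z ρ π) : ρ 1 = 1 := (r.kerρ 1 (one_mem _)).2 (one_mem _)

theorem real_ρinv {H M : Type*} [Group H] [CommGroup M] [MulDistribMulAction H M] {ρ : G → H} {π : G → M}
    (r : Real V Z ρ π) {g : G} (hg : g ∈ centralizer (Z : Set G)) : ρ g⁻¹ = (ρ g)⁻¹ := by
  have h4 := r.mulρ g hg g⁻¹ (inv_mem hg)
  rw [mul_inv_cancel, real_ρone h r] at h4
  exact (inv_eq_of_mul_eq_one_right h4.symm).symm

/-- **`FlagK` from `PB`.** -/
theorem flagK_of {H M : Type*} [Group H] [CommGroup M] [MulDistribMulAction H M] {ρ : G → H} {π : G → M}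
    (r : Real V Z ρ π)
    (hq : 4 ≤ Nat.card Z) {T : Subgroup H} (hT : ∀ x, x ∈ T ↔ ∃ s ∈ B, ρ s = x)
    {lam : Subgroup M} (hlam : ∀ m, m ∈ lam ↔ ∃ v ∈ V, π v = m) : FlagK T lam := by
  have hVW : V ≤ ws V Z := h.V_le_ws h.ZV
  have hS : B ≤ centralizer (Z : Set G) := h.B_le
  have hcen : ∀ {k}, k ∈ centralizer (Z : Set G) → ∀ z ∈ Z, k * z = z * k := fun hk z hz =>
    (mem_centralizer_iff.1 hk z hz).symm
  have hcm : ∀ {g w : G}, g ∈ centralizer (Z : Set G) → w ∈ ws V Z →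
      (g * w * g⁻¹ * w⁻¹ ∈ Z ↔ ρ g • π w = π w) := fun hg hw => real_comm h r hg hw
  have hlam1 : ∀ v ∈ V, π v ≠ 1 → v ∉ Z := fun v hv hv1 hvZ => hv1 ((r.kerπ v (hVW hv)).2 hvZ)
  have hKx : ∀ k ∈ kx V Z, k ∈ centralizer (Z : Set G) := fun k hk => kx_le_cent hk
  have hcard : Nat.card lam = Nat.card Z := by
    let φ : V →* M := MonoidHom.mk' (fun a => π a) (fun a b => r.mulπ a (hVW a.2) b (hVW b.2))
    have h1 := Subgroup.card_mul_index φ.ker
    rw [Subgroup.index_ker] at h1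
    have h2 : φ.range = lam := by
      ext m
      rw [hlam]
      constructor
      · rintro ⟨a, rfl⟩
        exact ⟨a, a.2, rfl⟩
      · rintro ⟨a, ha, rfl⟩
        exact ⟨⟨a, ha⟩, rfl⟩
    have h3 : Nat.card φ.ker = Nat.card Z := by
      refine Nat.card_congr ⟨fun x => ⟨x, ?_⟩, fun x => ⟨⟨x, h.ZV x.2⟩, ?_⟩, fun x => rfl, fun x => rfl⟩
      · exact (r.kerπ _ (hVW x.1.2)).1 x.2
      · exact (r.kerπ _ (hVW (h.ZV x.2))).2 x.2
    rw [h2, h3, h.card] at h1
    exact Nat.eq_of_mul_eq_mul_left Nat.card_pos h1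
  refine ⟨?_, ?_, ?_, ?_, ?_, ?_, hcard.symm ▸ hq, ?_, ?_, ?_, ?_⟩
  · exact Finite.of_surjective ρ fun x => by
      obtain ⟨g, -, hg⟩ := r.surjρ x
      exact ⟨g, hg⟩
  · exact Finite.of_surjective π fun x => by
      obtain ⟨g, -, hg⟩ := r.surjπ x
      exact ⟨g, hg⟩
  · intro m
    obtain ⟨w, hw, rfl⟩ := r.surjπ m
    rw [← r.mulπ w hw w hw, h.ws_sq w hw]
    exact real_one h r
  · intro x hx
    obtain ⟨g, hg, rfl⟩ := r.surjρ x
    exact (r.kerρ g hg).2 (mem_kx.2 ⟨hcen hg, fun w hw => (hcm hg hw).2 (hx _)⟩)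
  · rintro ⟨x, hx⟩
    obtain ⟨s, hs, rfl⟩ := (hT x).1 hx
    obtain ⟨k, hk⟩ := h.isPGroup_B ⟨s, hs⟩
    have hk' : s ^ 2 ^ k = 1 := congrArg Subtype.val hk
    refine ⟨k, Subtype.ext ?_⟩
    show ρ s ^ 2 ^ k = 1
    have hpow : ∀ j : ℕ, ρ (s ^ j) = ρ s ^ j := by
      intro j
      induction j with
      | zero => rw [pow_zero, pow_zero, real_ρone h r]
      | succ j ih => rw [pow_succ, pow_succ, r.mulρ _ (pow_mem (hS hs) j) _ (hS hs), ih]
    rw [← hpow, hk', real_ρone h r]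
  · have : Fact (Nat.Prime 2) := ⟨Nat.prime_two⟩
    let f : centralizer (Z : Set G) →* H := MonoidHom.mk' (fun a => ρ a) (fun a b => r.mulρ a a.2 b b.2)
    have hfs : Function.Surjective f := fun x => by
      obtain ⟨g, hg, rfl⟩ := r.surjρ x
      exact ⟨⟨g, hg⟩, rfl⟩
    obtain ⟨TB, hTB⟩ := h.exists_syl hS le_rfl
    let T' : Sylow 2 H := TB.mapSurjective hfs
    have hT' : (T' : Subgroup H) = T := by
      ext x
      have hx : x ∈ (T' : Subgroup H) ↔ x ∈ (TB : Subgroup (centralizer (Z : Set G))).map f := Iff.rfl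
      rw [hx, hTB, hT]
      constructor
      · rintro ⟨g, hg, rfl⟩
        exact ⟨g, mem_subgroupOf.1 hg, rfl⟩
      · rintro ⟨g, hg, rfl⟩
        exact ⟨⟨g, hS hg⟩, mem_subgroupOf.2 hg, rfl⟩
    have hfin : Finite H := Finite.of_surjective f hfs
    rw [← hT']
    exact T'.not_dvd_index
  · intro x hx a ha
    obtain ⟨s, hs, rfl⟩ := (hT x).1 hx
    obtain ⟨v, hv, rfl⟩ := (hlam a).1 ha
    exact (hcm (hS hs) (hVW hv)).1 (h.act s hs v hv)
  · intro x hx a ha
    obtain ⟨v, hv, rfl⟩ := (hlam a).1 ha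
    obtain ⟨g, hg, rfl⟩ := r.surjρ x
    have hSK : B ≤ normalizer ((kx V Z : Subgroup G) : Set G) :=
      h.B_le_N.trans (normalizer_le_kx V Z)
    have h1 : cj g B ≤ kx V Z ⊔ B := by
      intro y hy
      rw [mem_cj] at hy
      have hyC : y ∈ centralizer (Z : Set G) := by
        have := mul_mem (mul_mem hg (hS hy)) (inv_mem hg)
        have e : g * (g⁻¹ * y * g) * g⁻¹ = y := by group
        rwa [e] at this
      have h2 : ρ g * ρ (g⁻¹ * y * g) * (ρ g)⁻¹ ∈ T := (mem_normalizer_iff.1 hx _).1 ((hT _).2 ⟨_, hy, rfl⟩)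
      have h3 : ρ g * ρ (g⁻¹ * y * g) * (ρ g)⁻¹ = ρ y := by
        rw [← r.mulρ g hg _ (hS hy), ← real_ρinv h r hg,
          ← r.mulρ _ (mul_mem hg (hS hy)) _ (inv_mem hg)]
        congr 1; group
      rw [h3] at h2
      obtain ⟨s, hs, hs'⟩ := (hT _).1 h2
      have h5 : y * s⁻¹ ∈ kx V Z := by
        rw [← r.kerρ _ (mul_mem hyC (inv_mem (hS hs))), r.mulρ y hyC s⁻¹ (inv_mem (hS hs)),
          real_ρinv h r (hS hs), hs', mul_inv_cancel]
      have h8 : y = y * s⁻¹ * s := by group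
      rw [h8]
      exact mul_mem (mem_sup_left h5) (mem_sup_right hs)
    obtain ⟨b, hb, hbS⟩ := h.exists_conj (H := kx V Z ⊔ B) le_sup_right
      (sup_le (fun x hx => hKx x hx) hS) h1
    rw [← SetLike.mem_coe, coe_mul_of_right_le_normalizer_left _ _ hSK] at hb
    obtain ⟨k, hk, s, hs, rfl⟩ := hb
    have h2 : k⁻¹ * g ∈ normalizer (B : Set G) := by
      have h3 : cj (k * s) B = cj g B := hbS
      rw [← cj_cj, cj_eq_iff.2 (le_normalizer hs)] at h3
      rw [← cj_eq_iff, ← cj_cj, ← h3, cj_cj, inv_mul_cancel, cj_one]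
    have hkC := hKx k hk
    have h4 : ρ (k⁻¹ * g) = ρ g := by
      rw [r.mulρ _ (inv_mem hkC) g hg, real_ρinv h r hkC, (r.kerρ k hkC).2 hk, inv_one, one_mul]
    have h5 := (mem_normalizer_iff.1 (h.NB h2) v).1 hv
    refine (hlam _).2 ⟨_, h5, ?_⟩
    rw [r.act _ (mul_mem (inv_mem hkC) hg) v (hVW hv), h4]
  · intro a ha hv1 x hx b hb
    obtain ⟨v, hv, rfl⟩ := (hlam a).1 ha
    obtain ⟨u, hu, rfl⟩ := (hlam b).1 hb
    obtain ⟨g, hg, rfl⟩ := r.surjρ x
    have hvZ := hlam1 v hv hv1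
    rw [← hcm hg (hVW hv)] at hx
    rw [← hcm hg (hVW hu)]
    exact h.lin (hcen hg) hv hvZ hx u hu
  · intro N hN
    let E : Subgroup G :=
      { carrier := {w | w ∈ ws V Z ∧ π w ∈ N}
        one_mem' := ⟨one_mem _, by
          rw [real_one h r]; exact one_mem _⟩
        mul_mem' := by
          rintro a b ⟨ha, ha'⟩ ⟨hb, hb'⟩
          exact ⟨mul_mem ha hb, by rw [r.mulπ a ha b hb]; exact mul_mem ha' hb'⟩
        inv_mem' := by
          rintro a ⟨ha, ha'⟩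
          refine ⟨inv_mem ha, ?_⟩
          rw [real_inv h r ha]; exact inv_mem ha' }
    have hE : ws V Z ≤ E := by
      refine ws_le fun L hL hZL => ?_
      obtain ⟨c, hc, rfl⟩ := h.exists_cent_line hL hZL
      intro w hw
      refine ⟨le_ws hL hZL hw, ?_⟩
      have hw' := mem_cj.1 hw
      have e : c * (c⁻¹ * w * c) * c⁻¹ = w := by group
      have h1 := r.act c hc _ (hVW hw')
      rw [e] at h1
      rw [h1]
      exact hN _ _ ((hlam _).2 ⟨_, hw', rfl⟩)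
    rw [eq_top_iff]
    intro m _
    obtain ⟨w, hw, rfl⟩ := r.surjπ m
    exact (hE hw).2

/-- a realisation exists -/
theorem exists_real : ∃ (H M : Type u) (_ : Group H) (_ : CommGroup M) (_ : MulDistribMulAction H M)
    (ρ : G → H) (π : G → M), Real V Z ρ π := by
  have hWn := normalizer_le_ws V Z
  have hCn : centralizer (Z : Set G) ≤ normalizer (Z : Set G) := centralizer_le_normalizer _
  obtain ⟨H, M, iH, iM, iA, ρ, π, hρm, hρs, hρk, hπm, hπs, hπk, hact⟩ := exists_mod (C := centralizer (Z : Set G))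
    (W := ws V Z) (R := Z) (fun c hc w hw => (mem_normalizer_iff.1 (hWn (hCn hc)) w).1 hw)
    (fun c hc w hw => (mem_normalizer_iff.1 (hCn hc) w).1 hw)
    (fun a ha b hb => (mem_centralizer_iff.1 (h.Wcomm ha) b hb).symm)
  refine ⟨H, M, iH, iM, iA, ρ, π, hρm, hρs, fun a ha => ?_, hπm, hπs, hπk, hact⟩
  rw [hρk a ha, mem_kx]
  exact ⟨fun h1 => ⟨fun x hx => (mem_centralizer_iff.1 ha x hx).symm, h1⟩, fun h1 => h1.2⟩

/-- **(F1) from the K-input.** -/
theorem hf_of_kin (hq : 4 ≤ Nat.card Z)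
    {n : ℕ} (hn : 1 ≤ n) {x y : Pt Z}
    (hc : Crit (inc (Z := Z) (V := V)) (fun x : Pt Z => ws V x.sg) n x y)
    (hNO : KNO.{u} (fun H _ => Img (centralizer (Z : Set G)) H))
    (hPS : KPS.{u} (fun H _ => Img (centralizer (Z : Set G)) H)) : ¬ kx V Z ≤ centralizer (V : Set G) := by
  obtain ⟨H, M, iH, iM, iA, ρ, π, r⟩ := exists_real h
  let T : Subgroup H := FOne.tt h r
  have hT : ∀ x, x ∈ T ↔ ∃ s ∈ B, ρ s = x := fun x => FarQ.FOne.mem_img r
  have hWm : ∀ v ∈ V, v ∈ ws V Z := fun v hv => h.V_le_ws h.ZV hv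
  let lam : Subgroup M := (V.subgroupOf (ws V Z)).map (FarQ.FOne.ph r)
  have hlam : ∀ m, m ∈ lam ↔ ∃ v ∈ V, π v = m := fun m => FOne.ph_V_mem h r
  have hK := flagK_of h r hq hT hlam
  obtain ⟨K, iK, ζ, hinj, hran⟩ := exists_group (Z := Z) fun a ha b hb => h.Vcomm (h.ZV ha) (h.ZV hb)
  have hsq : ∀ r : K, r * r = 1 := by
    intro r
    apply hinj
    rw [map_mul, map_one]
    exact h.Vsq _ (h.ZV ((hran _).2 ⟨r, rfl⟩))
  have hcard : Nat.card K = Nat.card lam := by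
    have h1 : Nat.card K = Nat.card Z := by
      refine Nat.card_congr ⟨fun x => ⟨ζ x, (hran _).2 ⟨x, rfl⟩⟩, fun x => ((hran _).1 x.2).choose,
        fun x => ?_, fun x => ?_⟩
      · exact hinj ((hran (ζ x)).1 ((hran _).2 ⟨x, rfl⟩)).choose_spec
      · exact Subtype.ext ((hran _).1 x.2).choose_spec
    have h2 : Nat.card lam = Nat.card Z := by
      let φ : V →* M := MonoidHom.mk' (fun a => π a) (fun a b => r.mulπ a (hWm a a.2) b (hWm b b.2))
      have h1 := Subgroup.card_mul_index φ.ker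
      rw [Subgroup.index_ker] at h1
      have h2 : φ.range = lam := by
        ext m
        rw [hlam]
        constructor
        · rintro ⟨a, rfl⟩
          exact ⟨a, a.2, rfl⟩
        · rintro ⟨a, ha, rfl⟩
          exact ⟨⟨a, ha⟩, rfl⟩
      have h3 : Nat.card φ.ker = Nat.card Z := by
        refine Nat.card_congr ⟨fun x => ⟨x, ?_⟩, fun x => ⟨⟨x, h.ZV x.2⟩, ?_⟩, fun x => rfl, fun x => rfl⟩
        · exact (r.kerπ _ (hWm _ x.1.2)).1 x.2
        · exact (r.kerπ _ (hWm _ (h.ZV x.2))).2 x.2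
      rw [h2, h3, h.card] at h1
      exact Nat.eq_of_mul_eq_mul_left Nat.card_pos h1
    rw [h1, h2]
  have hI : Img (centralizer (Z : Set G)) H := FarQ.img_of_real r
  obtain ⟨Pi, hPi⟩ := hPS H M K T lam hI hK hsq hcard
  exact FOne.hf_of h r hn hc hT hlam (hNO H M T lam hI hK) (FarQ.FOne.PSf.of_psq hPi.toPSq hPi.pf hPi.cent)

end

end Cfsg.Agent.Omega.NO3S.FarB

end
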